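import Cfsg.Agent.S4035
import Cfsg.Agent.Lib.TwoClassSizes.Basic

/-!
Groups with class sizes `1`, `m`, `m * n` where `m`, `n` are coprime: basic facts.
-/

set_option autoImplicit false
set_option linter.style.haveILetI false
set_option linter.unusedSectionVars false

namespace CfsgLib.ClassThree

open CfsgLib.CentMaxNormal CfsgLib.TwoClassSizes

variable {G : Type*} [Group G]

/-- The class sizes are `1`, `m` and `m * n`. -/
structure Hyp (G : Type*) [Group G] (m n : ℕ) : Prop where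
  hm : 1 < m
  hn : 1 < n
  cop : m.Coprime n
  idx : ∀ x : G, x ∉ Subgroup.center G → (cen x).index = m ∨ (cen x).index = m * n
  exm : ∃ x : G, (cen x).index = m
  exmn : ∃ x : G, (cen x).index = m * n

/-- `x` has `q`-power order. -/
def IsQ (q : ℕ) (x : G) : Prop := ∃ k : ℕ, orderOf x = q ^ k

theorem isQ_iff {q : ℕ} [hq : Fact q.Prime] {x : G} : IsQ q x ↔ ∃ k : ℕ, x ^ q ^ k = 1 := by
  constructor
  · rintro ⟨k, hk⟩
    exact ⟨k, hk ▸ pow_orderOf_eq_one x⟩
  · rintro ⟨k, hk⟩
    obtain ⟨j, -, hj⟩ := (Nat.dvd_prime_pow hq.out).mp (orderOf_dvd_of_pow_eq_one hk)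
    exact ⟨j, hj⟩

theorem IsQ.coprime {q r : ℕ} [hq : Fact q.Prime] {x : G} (hx : IsQ q x) (h : ¬ q ∣ r) :
    (orderOf x).Coprime r := by
  obtain ⟨k, hk⟩ := hx
  rw [hk]
  exact (hq.out.coprime_iff_not_dvd.mpr h).pow_left k

theorem IsQ.conj {q : ℕ} {x : G} (hx : IsQ q x) (g : G) : IsQ q (g * x * g⁻¹) := by
  obtain ⟨k, hk⟩ := hx
  exact ⟨k, by rw [CfsgLib.Transfer.orderOf_conj, hk]⟩

theorem isQ_of_mem {q : ℕ} [hq : Fact q.Prime] {P : Subgroup G} (hP : IsPGroup q P) {x : G}
    (hx : x ∈ P) : IsQ q x := by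
  obtain ⟨k, hk⟩ := hP ⟨x, hx⟩
  exact isQ_iff.mpr ⟨k, congrArg Subtype.val hk⟩

/-- Powers of a twisted conjugate. -/
theorem pow_conj_of_commute {u k c : G} (h : u * k * u⁻¹ = k * c) (hc : Commute u c) (i : ℕ) :
    u ^ i * k * (u ^ i)⁻¹ = k * c ^ i := by
  induction i with
  | zero => simp
  | succ i ih =>
    calc u ^ (i + 1) * k * (u ^ (i + 1))⁻¹ = u * (u ^ i * k * (u ^ i)⁻¹) * u⁻¹ := by
          rw [pow_succ']; group
      _ = u * k * u⁻¹ * (u * c ^ i * u⁻¹) := by rw [ih]; group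
      _ = k * c ^ (i + 1) := by
          rw [h, (hc.pow_right i).eq, mul_inv_cancel_right, pow_succ', mul_assoc]

theorem commute_of_twist {u k c : G} (h : u * k * u⁻¹ = k * c) (hc : Commute u c)
    (hcop : (orderOf u).Coprime (orderOf c)) : Commute u k := by
  have h1 := pow_conj_of_commute h hc (orderOf u)
  rw [pow_orderOf_eq_one, one_mul, inv_one, mul_one] at h1
  have h2 : c ^ orderOf u = 1 := left_eq_mul.mp h1
  have h3 : orderOf c = 1 := by
    have := Nat.dvd_gcd (orderOf_dvd_of_pow_eq_one h2) dvd_rfl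
    rwa [Nat.Coprime.gcd_eq_one hcop, Nat.dvd_one] at this
  rw [orderOf_eq_one_iff.mp h3, mul_one] at h
  exact mul_inv_eq_iff_eq_mul.mp h

variable [Finite G] {q : ℕ} [hqF : Fact q.Prime]

/-- Split an element into commuting parts. -/
theorem exists_parts (g : G) : ∃ a b : G, g = a * b ∧ Commute a b ∧ IsQ q a ∧
    (orderOf b).Coprime q ∧ a ∈ Subgroup.zpowers g ∧ b ∈ Subgroup.zpowers g := by
  obtain ⟨i, l, hl, hord, hcop, hpq⟩ := CfsgLib.Transfer.exists_pow_coprime_part (p := q) g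
  have hgcd : l.Coprime (q ^ i) := (hqF.out.coprime_iff_not_dvd.mpr hl).symm.pow_right i
  have hb := Nat.gcd_eq_gcd_ab l (q ^ i)
  rw [Nat.Coprime.gcd_eq_one hgcd] at hb
  refine ⟨(g ^ l) ^ Nat.gcdA l (q ^ i), (g ^ (q ^ i)) ^ Nat.gcdB l (q ^ i), ?_, ?_, ?_, ?_,
    zpow_mem (pow_mem (Subgroup.mem_zpowers g) _) _,
    zpow_mem (pow_mem (Subgroup.mem_zpowers g) _) _⟩
  · conv_lhs => rw [← zpow_one g, show (1 : ℤ) = ((1 : ℕ) : ℤ) from rfl, hb, zpow_add, zpow_mul,
      zpow_mul, zpow_natCast, zpow_natCast]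
  · exact (((Commute.refl g).pow_pow l (q ^ i)).zpow_zpow _ _)
  · refine isQ_iff.mpr ⟨i, ?_⟩
    rw [← zpow_natCast, ← zpow_mul, mul_comm, zpow_mul, zpow_natCast]
    have : (g ^ l) ^ q ^ i = 1 := by rw [← hpq, pow_orderOf_eq_one]
    rw [this, one_zpow]
  · exact hcop.coprime_dvd_left (orderOf_dvd_of_mem_zpowers
      (zpow_mem (Subgroup.mem_zpowers _) _))

theorem cen_mul_eq {a b : G} (hc : Commute a b) (hcop : (orderOf a).Coprime (orderOf b)) :
    cen (a * b) = cen a ⊓ cen b := by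
  refine le_antisymm (le_inf (cen_le_cen_of_mem (mem_zpowers_mul hc hcop))
    (cen_le_cen_of_mem (hc.eq ▸ mem_zpowers_mul hc.symm hcop.symm))) ?_
  rintro g ⟨h1, h2⟩
  exact mem_cen.mpr (Commute.mul_right (mem_cen.mp h1 : Commute g a) (mem_cen.mp h2 : Commute g b))

theorem index_cen_eq_one {x : G} : (cen x).index = 1 ↔ x ∈ Subgroup.center G := by
  rw [Subgroup.index_eq_one, cen_eq_top_iff]

/-- If no class size is divisible by `q`, the Sylow subgroups for `q` are central. -/
theorem mem_center_of_index {H : Type*} [Group H] [Finite H]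
    (h : ∀ g : H, ¬ q ∣ (cen g).index) {x : H} (hx : IsQ q x) : x ∈ Subgroup.center H := by
  obtain ⟨k, hk⟩ := hx
  have hxg : IsPGroup q (Subgroup.zpowers x) := IsPGroup.of_card (n := k) (by rw [Nat.card_zpowers, hk])
  obtain ⟨T, hT⟩ := hxg.exists_le_sylow
  have htop : Subgroup.centralizer ((T : Subgroup H) : Set H) = ⊤ := by
    refine eq_top_of_conj_cover fun g => ?_
    obtain ⟨T₀⟩ := (inferInstance : Nonempty (Sylow q (cen g)))
    obtain ⟨T₁, hT₁⟩ := (T₀.2.map (cen g).subtype).exists_le_sylow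
    obtain ⟨y, hy⟩ := MulAction.exists_smul_eq H T T₁
    have hfull : (T₀ : Subgroup (cen g)).map (cen g).subtype = (T₁ : Subgroup H) := by
      refine Subgroup.eq_of_le_of_card_ge hT₁ ?_
      rw [Subgroup.card_map_of_injective (Subgroup.subtype_injective _), T₁.card_eq_multiplicity,
        T₀.card_eq_multiplicity, ← Subgroup.card_mul_index (cen g),
        Nat.factorization_mul Nat.card_pos.ne' Subgroup.index_ne_zero_of_finite,
        Finsupp.add_apply, Nat.factorization_eq_zero_of_not_dvd (h g), add_zero]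
    refine ⟨y, Subgroup.mem_centralizer_iff.mpr fun t ht => ?_⟩
    have h1 : y * t * y⁻¹ ∈ (T₁ : Subgroup H) := by
      rw [← hy]
      exact Subgroup.smul_mem_pointwise_smul t (MulAut.conj y) (T : Subgroup H) ht
    rw [← hfull] at h1
    obtain ⟨⟨e, he⟩, -, hee⟩ := h1
    have h2 : e * g = g * e := mem_cen.mp he
    rw [show e = y * t * y⁻¹ from hee] at h2
    calc t * (y⁻¹ * g * y) = y⁻¹ * (y * t * y⁻¹ * g) * y := by group
      _ = y⁻¹ * (g * (y * t * y⁻¹)) * y := by rw [h2]
      _ = y⁻¹ * g * y * t := by group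
  refine Subgroup.mem_center_iff.mpr fun g => ?_
  exact (Subgroup.mem_centralizer_iff.mp (htop ▸ Subgroup.mem_top g : g ∈ _) x
    (hT (Subgroup.mem_zpowers x))).symm

theorem isQ_le_factorization {A C : Subgroup G} (hA : IsPGroup q A) (hAC : A ≤ C) :
    Nat.card A ≤ q ^ (Nat.card C).factorization q := by
  obtain ⟨k, hk⟩ := IsPGroup.iff_card.mp hA
  rw [hk]
  refine Nat.pow_le_pow_right hqF.out.pos
    ((hqF.out.pow_dvd_iff_le_factorization Nat.card_pos.ne').mp ?_)
  rw [← hk]
  exact Subgroup.card_dvd_of_le hAC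

/-- A central element of prime power order lies in every Sylow subgroup. -/
theorem center_mem_sylow (P : Sylow q G) {z : G} (hz : z ∈ Subgroup.center G) (hq : IsQ q z) :
    z ∈ (P : Subgroup G) := by
  obtain ⟨k, hk⟩ := hq
  have hzg : IsPGroup q (Subgroup.zpowers z) := IsPGroup.of_card (n := k) (by rw [Nat.card_zpowers, hk])
  have hle : (P : Subgroup G) ≤ Subgroup.normalizer ((Subgroup.zpowers z : Subgroup G) : Set G) := by
    intro u _
    refine Subgroup.mem_normalizer_iff.mpr fun w => ?_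
    constructor
    · intro hw
      obtain ⟨i, rfl⟩ := Subgroup.mem_zpowers_iff.mp hw
      rw [Subgroup.mem_center_iff.mp (zpow_mem hz i) u, mul_inv_cancel_right]
      exact hw
    · intro hw
      obtain ⟨i, hi⟩ := Subgroup.mem_zpowers_iff.mp hw
      have : w = z ^ i := by
        calc w = u⁻¹ * (u * w * u⁻¹) * u := by group
          _ = u⁻¹ * (z ^ i * u) := by rw [hi]; group
          _ = u⁻¹ * (u * z ^ i) := by rw [Subgroup.mem_center_iff.mp (zpow_mem hz i) u]
          _ = z ^ i := by group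
      rw [this]
      exact Subgroup.zpow_mem_zpowers z i
  have h2 := P.3 (IsPGroup.to_sup_of_normal_right' P.2 hzg hle) le_sup_left
  rw [← h2]
  exact Subgroup.mem_sup_right (Subgroup.mem_zpowers z)

/-! ### Consequences of the hypothesis -/

variable {m n : ℕ}

theorem Hyp.m_pos (H : Hyp G m n) : 0 < m := Nat.lt_trans Nat.zero_lt_one H.hm

theorem Hyp.not_dvd_n (H : Hyp G m n) (hqm : q ∣ m) : ¬ q ∣ n := fun h =>
  hqF.out.ne_one (Nat.eq_one_of_dvd_coprimes H.cop hqm h)

theorem Hyp.factorization_pos (H : Hyp G m n) (hqm : q ∣ m) : 0 < m.factorization q :=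
  hqF.out.factorization_pos_of_dvd (by have := H.hm; omega) hqm

theorem Hyp.fact_index (H : Hyp G m n) (hqm : q ∣ m) {g : G} (hg : g ∉ Subgroup.center G) :
    (cen g).index.factorization q = m.factorization q := by
  rcases H.idx g hg with h | h
  · rw [h]
  · rw [h, Nat.factorization_mul (by have := H.hm; omega) (by have := H.hn; omega), Finsupp.add_apply,
      Nat.factorization_eq_zero_of_not_dvd (H.not_dvd_n hqm), add_zero]

theorem Hyp.fact_cen (H : Hyp G m n) (hqm : q ∣ m) {g : G} (hg : g ∉ Subgroup.center G) :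
    (Nat.card (cen g)).factorization q + m.factorization q = (Nat.card G).factorization q := by
  rw [← H.fact_index hqm hg, ← Subgroup.card_mul_index (cen g),
    Nat.factorization_mul Nat.card_pos.ne' Subgroup.index_ne_zero_of_finite, Finsupp.add_apply]

theorem Hyp.fact_cen_eq (H : Hyp G m n) (hqm : q ∣ m) {g g' : G} (hg : g ∉ Subgroup.center G)
    (hg' : g' ∉ Subgroup.center G) :
    (Nat.card (cen g)).factorization q = (Nat.card (cen g')).factorization q := by
  have := H.fact_cen hqm hg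
  have := H.fact_cen hqm hg'
  omega

theorem not_dvd_index_of_fact {K : Type*} [Group K] [Finite K] {D : Subgroup K}
    (h : (Nat.card K).factorization q = (Nat.card D).factorization q) : ¬ q ∣ D.index := by
  intro hd
  have h1 := hqF.out.factorization_pos_of_dvd Subgroup.index_ne_zero_of_finite hd
  rw [← Subgroup.card_mul_index D, Nat.factorization_mul Nat.card_pos.ne'
    Subgroup.index_ne_zero_of_finite, Finsupp.add_apply] at h
  omega

theorem card_cen_subgroup {C : Subgroup G} (y : C) :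
    Nat.card (cen y) = Nat.card ↥(cen (y : G) ⊓ C) := by
  rw [← Subgroup.card_map_of_injective (K := cen y) C.subtype_injective]
  congr 1
  have : (cen y).map C.subtype = cen (y : G) ⊓ C := by
    ext z
    constructor
    · rintro ⟨w, hw, rfl⟩
      exact ⟨mem_cen.mpr (congrArg Subtype.val (mem_cen.mp hw)), w.2⟩
    · rintro ⟨h1, h2⟩
      exact ⟨⟨z, h2⟩, mem_cen.mpr (Subtype.ext (mem_cen.mp h1)), rfl⟩
  rw [this]

theorem ncard_carrier_eq {K : Type*} [Group K] [Finite K] (y : K) :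
    (ConjClasses.mk y).carrier.ncard = (cen y).index := Cfsg.Agent.S4035.index_centralizer_eq y

/-- The centralizer of a noncentral `q`-element is a direct product. -/
structure Split (q : ℕ) (C : Subgroup G) where
  /-- The `q`-part. -/
  T : Subgroup G
  /-- The part of order prime to `q`. -/
  K : Subgroup G
  hT : IsPGroup q T
  T_le : T ≤ C
  K_le : K ≤ C
  K_cop : (Nat.card K).Coprime q
  card_T : Nat.card T = q ^ (Nat.card C).factorization q
  comm : ∀ t ∈ T, ∀ k ∈ K, Commute t k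
  prod : ∀ g ∈ C, ∃ t ∈ T, ∃ k ∈ K, g = t * k
  memT : ∀ g ∈ C, IsQ q g → g ∈ T
  memK : ∀ g ∈ C, (orderOf g).Coprime q → g ∈ K

theorem exists_split (H : Hyp G m n) (hqm : q ∣ m) {x : G} (hx : x ∉ Subgroup.center G)
    (hxq : IsQ q x) : Nonempty (Split q (cen x)) := by
  set C := cen x with hC
  have hyp : ∀ y : C, (orderOf y).Coprime q → ¬ q ∣ (ConjClasses.mk y).carrier.ncard := by
    intro y hy
    rw [ncard_carrier_eq]
    refine not_dvd_index_of_fact ?_
    rw [card_cen_subgroup]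
    have hcomm : Commute x (y : G) := (mem_cen.mp y.2 : Commute (y : G) x).symm
    have hcop : (orderOf x).Coprime (orderOf (y : G)) := by
      obtain ⟨k, hk⟩ := hxq
      rw [hk, Subgroup.orderOf_coe]
      exact hy.symm.pow_left k
    have hxy : x * (y : G) ∉ Subgroup.center G := fun h =>
      hx ((Subgroup.zpowers_le.mpr h) (mem_zpowers_mul hcomm hcop))
    have he : cen (y : G) ⊓ C = cen (x * (y : G)) := by rw [cen_mul_eq hcomm hcop, inf_comm]
    rw [he]
    exact H.fact_cen_eq hqm hx hxy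
  obtain ⟨P⟩ := (inferInstance : Nonempty (Sylow q C))
  obtain ⟨hPn, K, hKn, hKq, hPK, hsup⟩ := Cfsg.Agent.S4035.result hyp P
  haveI := hPn
  haveI := hKn
  have hcopK : (Nat.card K).Coprime q := (hqF.out.coprime_iff_not_dvd.mpr hKq).symm
  have hprod : ∀ g : C, ∃ t ∈ (P : Subgroup C), ∃ k ∈ K, g = t * k := by
    intro g
    have hg : g ∈ (P : Subgroup C) ⊔ K := hsup ▸ Subgroup.mem_top g
    obtain ⟨t, ht, k, hk, rfl⟩ := Subgroup.mem_sup_of_normal_right.mp hg
    exact ⟨t, ht, k, hk, rfl⟩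
  have hcomm : ∀ t ∈ (P : Subgroup C), ∀ k ∈ K, Commute t k := fun t ht k hk =>
    Subgroup.commute_of_normal_of_disjoint _ _ hPn hKn (disjoint_iff.mpr hPK) t k ht hk
  refine ⟨{
    T := (P : Subgroup C).map C.subtype
    K := K.map C.subtype
    hT := P.2.map _
    T_le := Subgroup.map_subtype_le _
    K_le := Subgroup.map_subtype_le _
    K_cop := by rwa [Subgroup.card_map_of_injective C.subtype_injective]
    card_T := by rw [Subgroup.card_map_of_injective C.subtype_injective, P.card_eq_multiplicity]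
    comm := ?_
    prod := ?_
    memT := ?_
    memK := ?_ }⟩
  · rintro _ ⟨t, ht, rfl⟩ _ ⟨k, hk, rfl⟩
    exact (hcomm t ht k hk).map C.subtype
  · intro g hg
    obtain ⟨t, ht, k, hk, h⟩ := hprod ⟨g, hg⟩
    exact ⟨_, ⟨t, ht, rfl⟩, _, ⟨k, hk, rfl⟩, congrArg Subtype.val h⟩
  · intro g hg hgq
    obtain ⟨k, hk⟩ := hgq
    have hgg : IsPGroup q (Subgroup.zpowers (⟨g, hg⟩ : C)) :=
      IsPGroup.of_card (n := k) (by rw [Nat.card_zpowers, Subgroup.orderOf_mk, hk])
    obtain ⟨P', hP'⟩ := hgg.exists_le_sylow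
    haveI : Subsingleton (Sylow q C) := (Sylow.unique_of_normal P hPn).instSubsingleton
    exact ⟨⟨g, hg⟩, (Subsingleton.elim P' P) ▸ hP' (Subgroup.mem_zpowers _), rfl⟩
  · intro g hg hgc
    refine ⟨⟨g, hg⟩, ?_, rfl⟩
    obtain ⟨t, ht, k, hk, h⟩ := hprod ⟨g, hg⟩
    obtain ⟨j, hj⟩ := isQ_of_mem P.2 ht
    have h1 : (t * k) ^ q ^ j = k ^ q ^ j := by
      rw [(hcomm t ht k hk).mul_pow, ← hj, pow_orderOf_eq_one, one_mul]
    have h2 : (⟨g, hg⟩ : C) ^ q ^ j ∈ K := by rw [h, h1]; exact pow_mem hk _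
    obtain ⟨i, hi⟩ := exists_pow_eq_self_of_coprime (x := (⟨g, hg⟩ : C)) (n := q ^ j)
      (by rw [Subgroup.orderOf_mk]; exact (hgc.pow_right j).symm)
    rw [← hi]
    exact pow_mem h2 _

end CfsgLib.ClassThree
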