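import Cfsg.Agent.Lib.ClassThree.Small

/-!
Some noncentral `p`-element has class size `p`.
-/

set_option autoImplicit false
set_option linter.style.haveILetI false
set_option linter.unusedSectionVars false

namespace CfsgLib.ClassThree

open CfsgLib.CentMaxNormal CfsgLib.TwoClassSizes
open scoped Pointwise

variable {G : Type*} [Group G] [Finite G] {p : ℕ} [hpF : Fact p.Prime] {n : ℕ}
  {S : Sylow p G} {x : G} (H : Hyp G p n) (hg : Good p (S : Subgroup G) x)

include H hg

theorem Good.card_cen_p {g : G} (hgnc : g ∉ Subgroup.center G) :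
    p ^ (Nat.card (cen g)).factorization p =
      p * Nat.card ↥((S : Subgroup G) ⊓ Subgroup.center G) := by
  rw [H.fact_cen_eq dvd_rfl hgnc hg.nc, ← hg.card_T H dvd_rfl, hg.card_T_eq H dvd_rfl]

theorem Good.inf_cen_of_small {u : G} (hu : (cen u).index = p) :
    ∃ w ∈ (S : Subgroup G), w ∉ Subgroup.center G ∧
      (S : Subgroup G) ⊓ cen u = (S : Subgroup G) ⊓ cen w := by
  have hunc : u ∉ Subgroup.center G := fun h => by
    rw [index_cen_eq_one.mpr h] at hu; exact hpF.out.one_lt.ne hu
  have hle : Nat.card ↥((S : Subgroup G) ⊓ cen u) ≤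
      p * Nat.card ↥((S : Subgroup G) ⊓ Subgroup.center G) := by
    rw [← hg.card_cen_p H hunc]
    exact isQ_le_factorization (S.2.to_le inf_le_left) inf_le_right
  have hge : Nat.card (S : Subgroup G) ≤ p * Nat.card ↥((S : Subgroup G) ⊓ cen u) := by
    have h4 := Subgroup.index_inf_le (H := (S : Subgroup G)) (K := cen u)
    have h1 := Subgroup.card_mul_index (S : Subgroup G)
    have h2 := Subgroup.card_mul_index ((S : Subgroup G) ⊓ cen u)
    rw [hu] at h4
    have h5 : 0 < (S : Subgroup G).index := Nat.pos_of_ne_zero Subgroup.index_ne_zero_of_finite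
    refine le_of_mul_le_mul_right (a := (S : Subgroup G).index) ?_ h5
    rw [h1, ← h2]
    calc _ ≤ Nat.card ↥((S : Subgroup G) ⊓ cen u) * ((S : Subgroup G).index * p) :=
          Nat.mul_le_mul_left _ h4
      _ = _ := by ring
  rw [hg.card_S_eq H dvd_rfl] at hge
  obtain ⟨w, hw, hwnc⟩ : ∃ w ∈ (S : Subgroup G) ⊓ cen u, w ∉ Subgroup.center G := by
    by_contra hcon
    push Not at hcon
    have := Nat.le_of_dvd Nat.card_pos (Subgroup.card_dvd_of_le
      (show (S : Subgroup G) ⊓ cen u ≤ (S : Subgroup G) ⊓ Subgroup.center G from fun w hw => ⟨hw.1, hcon w hw⟩))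
    have h6 := Nat.le_of_mul_le_mul_left hge hpF.out.pos
    have := hpF.out.two_le
    have : 0 < Nat.card ↥((S : Subgroup G) ⊓ Subgroup.center G) := Nat.card_pos
    nlinarith
  refine ⟨w, hw.1, hwnc, ?_⟩
  set A := ((S : Subgroup G) ⊓ Subgroup.center G) ⊔ Subgroup.zpowers w with hA
  have hAp : IsPGroup p A := S.2.to_le (sup_le inf_le_left (Subgroup.zpowers_le.mpr hw.1))
  have hAcard : p * Nat.card ↥((S : Subgroup G) ⊓ Subgroup.center G) ≤ Nat.card A :=
    mul_card_le le_sup_left hAp (Subgroup.mem_sup_right (Subgroup.mem_zpowers w)) fun h => hwnc h.2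
  have hA1 : A = (S : Subgroup G) ⊓ cen u := Subgroup.eq_of_le_of_card_ge
    (sup_le (inf_le_inf_left _ (center_le_cen u)) (Subgroup.zpowers_le.mpr hw)) (hle.trans hAcard)
  have hA2 : A = (S : Subgroup G) ⊓ cen w := Subgroup.eq_of_le_of_card_ge
    (sup_le (inf_le_inf_left _ (center_le_cen w)) (Subgroup.zpowers_le.mpr ⟨hw.1, self_mem_cen w⟩))
    ((hg.card_inf_cen H dvd_rfl hw.1 hwnc).trans_le hAcard)
  exact hA1.symm.trans hA2

theorem Good.not_forall_central (hn : p < n)
    (hall : ∀ a ∈ small H hn, IsQ p a → a ∈ Subgroup.center G) : False := by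
  classical
  haveI := small_normal H hn
  set M := small H hn with hM
  have hMmem : ∀ a, a ∈ M ↔ (cen a).index ∣ p := fun a => Iff.rfl
  have hSM : ∀ w ∈ (S : Subgroup G), w ∉ Subgroup.center G → w ∉ M := fun w hw hwnc h =>
    hwnc (hall w h (isQ_of_mem S.2 hw))
  -- `M` is abelian
  have habel : ∀ a ∈ M, ∀ b ∈ M, Commute a b := by
    intro a ha b hb
    have h1 : (cen b).relIndex M ∣ p :=
      (relIndex_dvd_of_normal (M := M) (cen b)).trans ((hMmem b).mp hb)
    have h2 : (cen b).relIndex M = 1 := by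
      refine ((Nat.dvd_prime hpF.out).mp h1).resolve_right fun h3 => ?_
      obtain ⟨R⟩ := (inferInstance : Nonempty (Sylow p M))
      have hle : (R : Subgroup M) ≤ (cen b).subgroupOf M := fun v hv => center_le_cen b
        (hall v v.2 (by
          obtain ⟨i, hi⟩ := isQ_of_mem R.2 hv
          exact ⟨i, by rw [Subgroup.orderOf_coe, hi]⟩))
      have h4 : p ∣ (R : Subgroup M).index := by
        have h5 : ((cen b).subgroupOf M).index ∣ (R : Subgroup M).index := Subgroup.index_dvd_of_le hle
        rw [Subgroup.relIndex] at h3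
        rwa [h3] at h5
      exact R.not_dvd_index h4
    exact (mem_cen.mp (Subgroup.relIndex_eq_one.mp h2 ha) : Commute a b)
  -- one element `u` of prime power order
  obtain ⟨r, hr, u, hu, huM, hunc, hrp⟩ : ∃ r : ℕ, r.Prime ∧ ∃ u : G, IsQ r u ∧ u ∈ M ∧
      u ∉ Subgroup.center G ∧ r ≠ p := by
    obtain ⟨g, hgp⟩ := H.exm
    have hgnc : g ∉ Subgroup.center G := fun h => by
      rw [index_cen_eq_one.mpr h] at hgp; exact hpF.out.one_lt.ne hgp
    have hgM : g ∈ M := (hMmem g).mpr (dvd_of_eq hgp)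
    by_contra h
    push Not at h
    refine hgnc (mem_of_prime_power_parts fun y hy r k hr hyk => ?_)
    by_contra hync
    have hyM : y ∈ M := (Subgroup.zpowers_le.mpr hgM) hy
    obtain rfl := h r hr y ⟨k, hyk⟩ hyM hync
    exact hync (hall y hyM ⟨k, hyk⟩)
  haveI := Fact.mk hr
  have hsmall : ∀ a ∈ M, a ∉ Subgroup.center G → (cen a).index = p := fun a ha hanc =>
    ((index_dvd_p_iff H).mp ((hMmem a).mp ha)).resolve_left hanc
  -- all noncentral `p'`-elements of `M` have the same line
  have hline : ∀ a ∈ M, ∀ b ∈ M, (orderOf a).Coprime p → a ∉ Subgroup.center G →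
      b ∉ Subgroup.center G → (S : Subgroup G) ⊓ cen a ≠ (S : Subgroup G) ⊓ cen b →
      ∀ l ∈ (S : Subgroup G), Commute l (a * b) → Commute l a := by
    intro a ha b hb hao hanc hbnc hne l hl hlab
    set c := a⁻¹ * (l * a * l⁻¹) with hc
    have hla : l * a * l⁻¹ ∈ M := (small_normal H hn).conj_mem a ha l
    have hlb : l * b * l⁻¹ ∈ M := (small_normal H hn).conj_mem b hb l
    have hcM : c ∈ M := mul_mem (inv_mem ha) hla
    have hcb : c = b * (l * b * l⁻¹)⁻¹ := by
      have h1 : (l * a * l⁻¹) * (l * b * l⁻¹) = a * b := by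
        calc (l * a * l⁻¹) * (l * b * l⁻¹) = l * (a * b) * l⁻¹ := by group
          _ = a * b := by rw [hlab.eq, mul_inv_cancel_right]
      rw [hc, eq_mul_inv_iff_mul_eq, mul_assoc, h1, inv_mul_cancel_left]
    have hfix : ∀ d ∈ M, ∀ v ∈ (S : Subgroup G) ⊓ cen d, Commute v (l * d * l⁻¹) := by
      intro d hd v hv
      have h1 : l⁻¹ * v * l ∈ (S : Subgroup G) ⊓ cen d := by
        have hz := hg.comm_central H dvd_rfl (inv_mem hl) hv.1
        have e : l⁻¹ * v * l = (l⁻¹ * v * (l⁻¹)⁻¹ * v⁻¹) * v := by group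
        rw [e]
        exact Subgroup.mem_inf.mpr ⟨mul_mem (mul_mem (mul_mem (mul_mem (inv_mem hl) hv.1)
          (inv_mem (inv_mem hl))) (inv_mem hv.1)) hv.1, mul_mem (center_le_cen d hz) hv.2⟩
      have h2 := Commute.map (mem_cen.mp h1.2 : Commute (l⁻¹ * v * l) d) (MulAut.conj l).toMonoidHom
      simpa [mul_assoc] using h2
    have hgen : ((S : Subgroup G) ⊓ cen a) ⊔ ((S : Subgroup G) ⊓ cen b) = (S : Subgroup G) := by
      refine Subgroup.eq_of_le_of_card_ge (sup_le inf_le_left inf_le_left) ?_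
      obtain ⟨v, hv, hv'⟩ : ∃ v ∈ (S : Subgroup G) ⊓ cen b, v ∉ (S : Subgroup G) ⊓ cen a := by
        by_contra hcon
        push Not at hcon
        refine hne (Subgroup.eq_of_le_of_card_ge (fun v hv => hcon v hv) ?_).symm
        obtain ⟨w₁, h₁, hn₁, e₁⟩ := hg.inf_cen_of_small H (hsmall a ha hanc)
        obtain ⟨w₂, h₂, hn₂, e₂⟩ := hg.inf_cen_of_small H (hsmall b hb hbnc)
        rw [e₁, e₂, hg.card_inf_cen H dvd_rfl h₁ hn₁, hg.card_inf_cen H dvd_rfl h₂ hn₂]
      obtain ⟨w₁, h₁, hn₁, e₁⟩ := hg.inf_cen_of_small H (hsmall a ha hanc)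
      rw [hg.card_S_eq H dvd_rfl, ← hg.card_inf_cen H dvd_rfl h₁ hn₁, ← e₁]
      exact mul_card_le le_sup_left (S.2.to_le (sup_le inf_le_left inf_le_left))
        (Subgroup.mem_sup_right hv) hv'
    have hcS : (S : Subgroup G) ≤ cen c := by
      rw [← hgen]
      refine sup_le (fun v hv => mem_cen.mpr ?_) (fun v hv => mem_cen.mpr ?_)
      · exact (Commute.mul_right (Commute.inv_right (mem_cen.mp hv.2 : Commute v a)) (hfix a ha v hv)).eq
      · rw [hcb]
        exact (Commute.mul_right (mem_cen.mp hv.2 : Commute v b) (hfix b hb v hv).inv_right).eq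
    have hcz : c ∈ Subgroup.center G := by
      by_contra hcnc
      have h1 := isQ_le_factorization S.2 hcS
      rw [hg.card_cen_p H hcnc, hg.card_S_eq H dvd_rfl] at h1
      have := hpF.out.two_le
      have h0 : 0 < Nat.card ↥((S : Subgroup G) ⊓ Subgroup.center G) := Nat.card_pos
      have := Nat.le_of_mul_le_mul_left h1 hpF.out.pos
      nlinarith
    refine commute_of_twist (c := c) (by rw [hc]; group) (Subgroup.mem_center_iff.mp hcz l) ?_
    refine (isQ_of_mem S.2 hl).coprime ?_
    refine hpF.out.coprime_iff_not_dvd.mp (Nat.Coprime.symm ?_)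
    have hcomm : Commute a⁻¹ (l * a * l⁻¹) := habel _ (inv_mem ha) _ hla
    refine Nat.Coprime.coprime_dvd_left (hcomm.orderOf_mul_dvd_lcm.trans ?_) hao
    rw [orderOf_inv, CfsgLib.Transfer.orderOf_conj, Nat.lcm_self]
  obtain ⟨w₀, hw₀, hw₀nc, hL⟩ := hg.inf_cen_of_small H (hsmall u huM hunc)
  have huco : (orderOf u).Coprime p := hu.coprime fun h => hrp
    ((Nat.prime_dvd_prime_iff_eq hr hpF.out).mp h)
  have huniq : ∀ a ∈ M, (orderOf a).Coprime p → a ∉ Subgroup.center G →
      (S : Subgroup G) ⊓ cen a = (S : Subgroup G) ⊓ cen u := by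
    intro a ha hao hanc
    by_contra hne
    have habnc : a * u ∉ Subgroup.center G := by
      intro h
      apply hne
      have h2 : cen a = cen u := by
        have h3 : cen (a * u * u⁻¹) = cen u⁻¹ := cen_mul_center h
        rw [mul_inv_cancel_right] at h3
        rw [h3]
        exact le_antisymm (fun v hv => mem_cen.mpr (by
            have := Commute.inv_right (mem_cen.mp hv : Commute v u⁻¹)
            rwa [inv_inv] at this : Commute v u).eq)
          (fun v hv => mem_cen.mpr (Commute.inv_right (mem_cen.mp hv : Commute v u)).eq)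
      rw [h2]
    obtain ⟨l, hl, hlnc, hL3⟩ := hg.inf_cen_of_small H (hsmall _ (M.mul_mem ha huM) habnc)
    have hl3 : l ∈ (S : Subgroup G) ⊓ cen (a * u) := hL3 ▸ ⟨hl, self_mem_cen l⟩
    have hlau : Commute l (a * u) := mem_cen.mp hl3.2
    have h1 : l ∈ (S : Subgroup G) ⊓ cen a :=
      ⟨hl, mem_cen.mpr (hline a ha u huM hao hanc hunc hne l hl hlau).eq⟩
    have h2 : l ∈ (S : Subgroup G) ⊓ cen u := by
      refine ⟨hl, mem_cen.mpr (hline u huM a ha huco hunc hanc (Ne.symm hne) l hl ?_).eq⟩
      rwa [(habel u huM a ha).eq]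
    apply hne
    obtain ⟨w₁, h₁, hn₁, e₁⟩ := hg.inf_cen_of_small H (hsmall a ha hanc)
    have k1 : (S : Subgroup G) ⊓ cen a = ((S : Subgroup G) ⊓ Subgroup.center G) ⊔ Subgroup.zpowers l := by
      refine (Subgroup.eq_of_le_of_card_ge (sup_le (inf_le_inf_left _ (center_le_cen a))
        (Subgroup.zpowers_le.mpr h1)) ?_).symm
      rw [e₁, hg.card_inf_cen H dvd_rfl h₁ hn₁]
      exact mul_card_le le_sup_left (S.2.to_le (sup_le inf_le_left (Subgroup.zpowers_le.mpr hl)))
        (Subgroup.mem_sup_right (Subgroup.mem_zpowers l)) fun h => hlnc h.2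
    have k2 : (S : Subgroup G) ⊓ cen u = ((S : Subgroup G) ⊓ Subgroup.center G) ⊔ Subgroup.zpowers l := by
      refine (Subgroup.eq_of_le_of_card_ge (sup_le (inf_le_inf_left _ (center_le_cen u))
        (Subgroup.zpowers_le.mpr h2)) ?_).symm
      rw [hL, hg.card_inf_cen H dvd_rfl hw₀ hw₀nc]
      exact mul_card_le le_sup_left (S.2.to_le (sup_le inf_le_left (Subgroup.zpowers_le.mpr hl)))
        (Subgroup.mem_sup_right (Subgroup.mem_zpowers l)) fun h => hlnc h.2
    exact k1.trans k2.symm
  -- an element of `S` outside that line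
  obtain ⟨w, hw, hwout⟩ : ∃ w ∈ (S : Subgroup G), w ∉ (S : Subgroup G) ⊓ cen u := by
    by_contra hcon
    push Not at hcon
    have h1 := Nat.le_of_dvd Nat.card_pos (Subgroup.card_dvd_of_le (show (S : Subgroup G) ≤ (S : Subgroup G) ⊓ cen u from fun w hw => hcon w hw))
    rw [hL, hg.card_inf_cen H dvd_rfl hw₀ hw₀nc, hg.card_S_eq H dvd_rfl] at h1
    have := hpF.out.two_le
    have h0 : 0 < Nat.card ↥((S : Subgroup G) ⊓ Subgroup.center G) := Nat.card_pos
    have := Nat.le_of_mul_le_mul_left h1 hpF.out.pos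
    nlinarith
  have hwnc : w ∉ Subgroup.center G := fun h => hwout ⟨hw, center_le_cen u h⟩
  have hwidx : (cen w).index = p * n := H.index_eq_pn fun h => hSM w hw hwnc ((hMmem w).mpr h)
  have hCM : ∀ a ∈ M, (orderOf a).Coprime p → a ∈ cen w → a ∈ Subgroup.center G := by
    intro a ha hao haw
    by_contra hanc
    exact hwout (huniq a ha hao hanc ▸ ⟨hw, mem_cen_comm.mp haw⟩)
  have hrnot : ¬ r ∣ p := fun h => hrp ((Nat.prime_dvd_prime_iff_eq hr hpF.out).mp h)
  have hwp : ¬ p ∣ r := fun h => hrp ((Nat.prime_dvd_prime_iff_eq hpF.out hr).mp h).symm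
  by_cases hcase : ∀ k ∈ cen w, IsQ r k → k ∈ Subgroup.center G
  · -- the centralizer of `w₀` contains `u`
    have hw₀u : u ∈ cen w₀ := by
      have : w₀ ∈ (S : Subgroup G) ⊓ cen u := hL ▸ ⟨hw₀, self_mem_cen w₀⟩
      exact mem_cen_comm.mp this.2
    have hw₀idx : (cen w₀).index = p * n := H.index_eq_pn fun h => hSM w₀ hw₀ hw₀nc ((hMmem w₀).mpr h)
    obtain ⟨R⟩ := (inferInstance : Nonempty (Sylow r (cen w)))
    set R0 := (R : Subgroup (cen w)).map (cen w).subtype with hR0
    have hR0c : R0 ≤ Subgroup.center G := fun v hv =>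
      hcase v (Subgroup.map_subtype_le _ hv) (isQ_of_mem (R.2.map _) hv)
    have hcard : Nat.card R0 = r ^ (Nat.card (cen w₀)).factorization r := by
      rw [hR0, Subgroup.card_map_of_injective (Subgroup.subtype_injective _), R.card_eq_multiplicity]
      have h1 := fact_add_index (r := r) w
      have h2 := fact_add_index (r := r) w₀
      rw [hwidx] at h1
      rw [hw₀idx] at h2
      congr 1
      omega
    have hnz : Subgroup.zpowers u ≤ Subgroup.normalizer (R0 : Set G) :=
      Subgroup.zpowers_le.mpr (mem_normalizer_of_forall fun v hv => by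
        rw [Subgroup.mem_center_iff.mp (hR0c hv) u, mul_inv_cancel_right]; exact hv)
    have huz : IsPGroup r (Subgroup.zpowers u) := by
      obtain ⟨i, hi⟩ := hu
      exact IsPGroup.of_card (n := i) (by rw [Nat.card_zpowers, hi])
    have h2 := eq_of_full (g := w₀) hcard (IsPGroup.to_sup_of_normal_left' (R.2.map _) huz hnz)
      le_sup_left (sup_le (fun v hv => center_le_cen w₀ (hR0c hv)) (Subgroup.zpowers_le.mpr hw₀u))
    exact hunc (hR0c (h2 ▸ Subgroup.mem_sup_right (Subgroup.mem_zpowers u)))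
  · push Not at hcase
    obtain ⟨k, hkw, hkr, hknc⟩ := hcase
    have hkco : (orderOf k).Coprime p := hkr.coprime hrnot
    have hkM : k ∉ M := fun h => hknc (hCM k h hkco hkw)
    have hkidx : (cen k).index = p * n := H.index_eq_pn fun h => hkM ((hMmem k).mpr h)
    have hwk : Commute w k := (mem_cen.mp hkw : Commute k w).symm
    have hwkco : (orderOf w).Coprime (orderOf k) := by
      obtain ⟨i, hi⟩ := isQ_of_mem S.2 hw
      rw [hi]; exact hkco.symm.pow_left i
    have hcm := cen_mul_eq hwk hwkco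
    have hwknc : w * k ∉ Subgroup.center G := fun h =>
      hwnc ((Subgroup.zpowers_le.mpr h) (mem_zpowers_mul hwk hwkco))
    have hwkidx : (cen (w * k)).index = p * n := by
      rcases H.idx _ hwknc with h | h
      · exfalso
        have h1 : (cen w).index ∣ (cen (w * k)).index := Subgroup.index_dvd_of_le (hcm ▸ inf_le_left)
        rw [h, hwidx] at h1
        have := Nat.le_of_dvd hpF.out.pos h1
        have := H.hn
        have := hpF.out.two_le
        nlinarith
      · exact h
    have heq : ∀ y, (cen y).index = p * n → cen (w * k) ≤ cen y → cen (w * k) = cen y := by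
      intro y hy hle
      refine Subgroup.eq_of_le_of_card_ge hle (le_of_eq ?_)
      have h1 := Subgroup.card_mul_index (cen y)
      have h2 := Subgroup.card_mul_index (cen (w * k))
      rw [hy] at h1; rw [hwkidx] at h2
      exact Nat.eq_of_mul_eq_mul_right (by have := H.hn; have := hpF.out.two_le; positivity)
        (h1.trans h2.symm)
    have hkeq : cen k = cen w :=
      (heq k hkidx (hcm ▸ inf_le_right)).symm.trans (heq w hwidx (hcm ▸ inf_le_left))
    -- a Sylow subgroup containing `k`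
    have hkz : IsPGroup r (Subgroup.zpowers k) := by
      obtain ⟨i, hi⟩ := hkr
      exact IsPGroup.of_card (n := i) (by rw [Nat.card_zpowers, hi])
    obtain ⟨R, hR⟩ := hkz.exists_le_sylow
    obtain ⟨R₁⟩ := (inferInstance : Nonempty (Sylow r (cen u)))
    obtain ⟨R₂, hR₂⟩ := (R₁.2.map (cen u).subtype).exists_le_sylow
    have hfull : (R₁ : Subgroup (cen u)).map (cen u).subtype = (R₂ : Subgroup G) := by
      refine Subgroup.eq_of_le_of_card_ge hR₂ ?_
      rw [Subgroup.card_map_of_injective (Subgroup.subtype_injective _), R₂.card_eq_multiplicity,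
        R₁.card_eq_multiplicity, ← fact_add_index (r := r) u, hsmall u huM hunc,
        Nat.factorization_eq_zero_of_not_dvd hrnot, add_zero]
    obtain ⟨g, hgR⟩ := MulAction.exists_smul_eq G R₂ R
    set u' := g * u * g⁻¹ with hu'
    have hu'k : Commute u' k := by
      have h1 : k ∈ MulAut.conj g • (R₂ : Subgroup G) := by
        have h0 := hR (Subgroup.mem_zpowers k)
        rw [← hgR] at h0
        exact h0
      rw [Subgroup.mem_pointwise_smul_iff_inv_smul_mem] at h1
      rw [← hfull] at h1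
      have h2 : (MulAut.conj g)⁻¹ • k ∈ cen u := Subgroup.map_subtype_le _ h1
      have h3 := Commute.map (mem_cen.mp h2 : Commute _ u) (MulAut.conj g).toMonoidHom
      simpa [hu', mul_assoc] using h3.symm
    have hu'nc : u' ∉ Subgroup.center G := fun h => hunc (mem_center_conj_iff.mp h)
    refine hu'nc (hCM u' ((small_normal H hn).conj_mem u huM g)
      (by rw [hu', CfsgLib.Transfer.orderOf_conj]; exact huco) (hkeq ▸ mem_cen.mpr hu'k.eq))

end CfsgLib.ClassThree
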