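import Cfsg.Agent.Lib.ClassThree.Element

/-!
The structure of groups with class sizes `1`, `m`, `m * n`, `m` and `n` coprime.
-/

set_option autoImplicit false
set_option linter.style.haveILetI false
set_option linter.unusedSectionVars false

namespace CfsgLib.ClassThree

open CfsgLib.CentMaxNormal CfsgLib.TwoClassSizes
open scoped Pointwise

variable {G : Type*} [Group G] [Finite G] {p : ℕ} [hpF : Fact p.Prime] {n : ℕ}

theorem index_sup_lt {C : Subgroup G} {y : G} (hC : C.index = p) (hy : y ∉ C) {B : Subgroup G}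
    (hyB : y ∈ B) : C ⊔ B = ⊤ := by
  rw [← Subgroup.index_eq_one]
  have h1 : (C ⊔ B).index ∣ p := hC ▸ Subgroup.index_dvd_of_le le_sup_left
  refine ((Nat.dvd_prime hpF.out).mp h1).resolve_right fun h => hy ?_
  have : C = C ⊔ B := by
    refine Subgroup.eq_of_le_of_card_ge le_sup_left (le_of_eq ?_)
    have e1 := Subgroup.card_mul_index C
    have e2 := Subgroup.card_mul_index (C ⊔ B)
    rw [hC] at e1; rw [h] at e2
    exact Nat.eq_of_mul_eq_mul_right hpF.out.pos (e2.trans e1.symm)
  rw [this]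
  exact Subgroup.mem_sup_right hyB

theorem main (H : Hyp G p n) :
    p ∣ n - 1 ∧ (∃ M : Subgroup G, M.Normal ∧
      (M : Set G) = {g : G | (cen g).index = 1 ∨ (cen g).index = p} ∧ M.index = p ∧
      IsMulCommutative M) ∧
    (∃ N : Subgroup G, N.Normal ∧ (Nat.card N).Coprime p ∧ ∃ a : ℕ, N.index = p ^ a) ∧
    ∀ P : Sylow p G, Nat.card (commutator (P : Subgroup G)) = p := by
  classical
  have hcomm : ∀ P : Sylow p G, Nat.card (commutator (P : Subgroup G)) = p := fun P => by
    obtain ⟨x, hg⟩ := H.good dvd_rfl P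
    exact hg.card_commutator H dvd_rfl
  obtain ⟨S₀⟩ := (inferInstance : Nonempty (Sylow p G))
  obtain ⟨x₀, hg₀⟩ := H.good dvd_rfl S₀
  have hn := hg₀.lt_n H
  obtain ⟨w, hwM, hwp, hwnc⟩ : ∃ w ∈ small H hn, IsQ p w ∧ w ∉ Subgroup.center G := by
    by_contra hcon
    push Not at hcon
    exact hg₀.not_forall_central H hn hcon
  have hwidx : (cen w).index = p := ((index_dvd_p_iff H).mp hwM).resolve_left hwnc
  have hwz : IsPGroup p (Subgroup.zpowers w) := by
    obtain ⟨i, hi⟩ := hwp
    exact IsPGroup.of_card (n := i) (by rw [Nat.card_zpowers, hi])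
  obtain ⟨S, hS⟩ := hwz.exists_le_sylow
  have hwS : w ∈ (S : Subgroup G) := hS (Subgroup.mem_zpowers w)
  obtain ⟨x, hg⟩ := H.good dvd_rfl S
  set C := cen w with hC
  set T := (S : Subgroup G) ⊓ C with hT
  have hTcard := hg.card_inf_cen H dvd_rfl hwS hwnc
  have hScard := hg.card_S_eq H dvd_rfl
  obtain ⟨y, hyS, hyC⟩ : ∃ y ∈ (S : Subgroup G), y ∉ C := by
    by_contra hcon
    push Not at hcon
    rw [inf_eq_left.mpr hcon, hScard] at hTcard
    have := Nat.eq_of_mul_eq_mul_left hpF.out.pos hTcard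
    have h0 : 0 < Nat.card ↥((S : Subgroup G) ⊓ Subgroup.center G) := Nat.card_pos
    have := hpF.out.two_le
    nlinarith
  have htop := index_sup_lt hwidx hyC hyS
  have hCn : C.Normal := by
    rw [← Subgroup.normalizer_eq_top_iff, eq_top_iff, ← htop]
    refine sup_le Subgroup.le_normalizer fun s hs => ?_
    obtain ⟨c, hc, h1⟩ := hg.twist H dvd_rfl hwS s hs
    exact mem_normalizer_of_central_mod hc h1
  haveI := hCn
  obtain ⟨sp⟩ := exists_split H dvd_rfl hwnc hwp
  set K := sp.K with hK
  have hspT : sp.T = T := le_antisymm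
    (fun t ht => ⟨hg.mem_of_cen H hwS hwnc (sp.T_le ht) (isQ_of_mem sp.hT ht), sp.T_le ht⟩)
    (fun t ht => sp.memT t ht.2 (isQ_of_mem S.2 ht.1))
  have hKn : K.Normal := ⟨fun k hk g => sp.memK _ (hCn.conj_mem k (sp.K_le hk) g) (by
    rw [CfsgLib.Transfer.orderOf_conj]; exact Transfer.coprime_orderOf_of_mem sp.K_cop hk)⟩
  haveI := hKn
  have hpK : ∀ g : G, (orderOf g).Coprime p → g ∈ K := by
    intro g hgc
    refine sp.memK g ?_ hgc
    have h1 : g ^ p ∈ C := by
      rw [← hwidx]; exact Subgroup.pow_index_mem C g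
    obtain ⟨i, hi⟩ := exists_pow_eq_self_of_coprime (x := g) (n := p) hgc.symm
    rw [← hi]
    exact pow_mem h1 i
  have hcardC : Nat.card C = Nat.card T * Nat.card K := by rw [sp.card_eq, hspT]
  have hcardG : Nat.card G = Nat.card (S : Subgroup G) * Nat.card K := by
    rw [← Subgroup.card_mul_index C, hwidx, hcardC, hScard, hTcard]; ring
  have hfix : ∀ h ∈ K, ∀ v ∈ (S : Subgroup G), v ∉ C → Commute v h → h ∈ Subgroup.center G := by
    intro h hh v hv hvC hvh
    by_contra hhnc
    have hle : (S : Subgroup G) ≤ cen h := by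
      have hgen : T ⊔ Subgroup.zpowers v = (S : Subgroup G) := by
        refine Subgroup.eq_of_le_of_card_ge (sup_le inf_le_left (Subgroup.zpowers_le.mpr hv)) ?_
        rw [hScard, ← hTcard]
        exact mul_card_le le_sup_left (S.2.to_le (sup_le inf_le_left (Subgroup.zpowers_le.mpr hv)))
          (Subgroup.mem_sup_right (Subgroup.mem_zpowers v)) fun h' => hvC h'.2
      rw [← hgen]
      refine sup_le (fun t ht => mem_cen.mpr (sp.comm t (hspT.symm ▸ ht) h hh).eq)
        (Subgroup.zpowers_le.mpr (mem_cen.mpr hvh.eq))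
    have h1 := isQ_le_factorization S.2 hle
    rw [hg.card_cen_p H hhnc, hScard] at h1
    have := Nat.le_of_mul_le_mul_left h1 hpF.out.pos
    have h0 : 0 < Nat.card ↥((S : Subgroup G) ⊓ Subgroup.center G) := Nat.card_pos
    have := hpF.out.two_le
    nlinarith
  have hKsub : ∀ g : G, (cen g).index = p → K ≤ cen g := by
    intro g hgidx
    have h1 : (cen g).relIndex K ∣ p := hgidx ▸ relIndex_dvd_of_normal (M := K) (cen g)
    have h2 : (cen g).relIndex K ∣ Nat.card K := Subgroup.index_dvd_card _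
    exact Subgroup.relIndex_eq_one.mp (Nat.eq_one_of_dvd_coprimes sp.K_cop.symm h1 h2)
  have hyidx : ∀ v ∈ (S : Subgroup G), v ∉ C → (cen v).index = p * n := by
    intro v hv hvC
    refine H.index_eq_pn fun hd => ?_
    have hvnc : v ∉ Subgroup.center G := fun h => hvC (center_le_cen w h)
    have hK1 := hKsub v (((index_dvd_p_iff H).mp hd).resolve_left hvnc)
    obtain ⟨b, hb, hbnc⟩ := H.exists_coprime_noncentral (p := p) dvd_rfl
    exact hbnc (hfix b (hpK b hb) v hv hvC (mem_cen.mp (hK1 (hpK b hb)) : Commute b v).symm)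
  have hync : y ∉ Subgroup.center G := fun h => hyC (center_le_cen w h)
  obtain ⟨spy⟩ := exists_split H dvd_rfl hync (isQ_of_mem S.2 hyS)
  have hKy : spy.K = K ⊓ Subgroup.center G := by
    refine le_antisymm (fun k hk => ?_) (fun k hk => spy.memK k (center_le_cen y hk.2)
      (Transfer.coprime_orderOf_of_mem sp.K_cop hk.1))
    have hkK := hpK k (Transfer.coprime_orderOf_of_mem spy.K_cop hk)
    exact ⟨hkK, hfix k hkK y hyS hyC (mem_cen.mp (spy.K_le hk) : Commute k y).symm⟩
  have hcardy : Nat.card (cen y) =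
      p * Nat.card ↥((S : Subgroup G) ⊓ Subgroup.center G) * Nat.card ↥(K ⊓ Subgroup.center G) := by
    rw [spy.card_eq, hKy, spy.card_T, hg.card_cen_p H hync]
  have hnK : n * Nat.card ↥(K ⊓ Subgroup.center G) = Nat.card K := by
    have h1 := Subgroup.card_mul_index (cen y)
    rw [hyidx y hyS hyC, hcardy, hcardG, hScard] at h1
    refine Nat.eq_of_mul_eq_mul_left (Nat.mul_pos hpF.out.pos (Nat.mul_pos hpF.out.pos Nat.card_pos) :
      0 < p * (p * Nat.card ↥((S : Subgroup G) ⊓ Subgroup.center G))) ?_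
    rw [← h1]; ring
  -- `C` is abelian
  have hKab : ∀ h ∈ K, K ≤ cen h := by
    intro h hh
    by_cases hhnc : h ∈ Subgroup.center G
    · rw [cen_eq_top_iff.mpr hhnc]; exact le_top
    refine hKsub h ((H.idx h hhnc).resolve_right fun hidx => ?_)
    have h1 := Subgroup.card_mul_index (cen h)
    have h2 := Subgroup.card_mul_index (cen y)
    rw [hidx] at h1
    rw [hyidx y hyS hyC, hcardy] at h2
    have heq := Nat.eq_of_mul_eq_mul_right (by have := H.hn; have := hpF.out.two_le; positivity)
      (h1.trans h2.symm)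
    set B := (K ⊓ Subgroup.center G) ⊔ Subgroup.zpowers h with hB
    have hBK : B ≤ K := sup_le inf_le_left (Subgroup.zpowers_le.mpr hh)
    have hBc : B ≤ cen h := sup_le (fun v hv => center_le_cen h hv.2)
      (Subgroup.zpowers_le.mpr (self_mem_cen h))
    have hTc : T ≤ cen h := fun t ht => mem_cen.mpr (sp.comm t (hspT.symm ▸ ht) h hh).eq
    have hlt : Nat.card ↥(K ⊓ Subgroup.center G) < Nat.card B := by
      refine lt_of_le_of_ne (Nat.le_of_dvd Nat.card_pos (Subgroup.card_dvd_of_le le_sup_left)) fun he => hhnc ?_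
      have := Subgroup.eq_of_le_of_card_ge (le_sup_left : _ ≤ B) he.ge
      exact (this.ge (Subgroup.mem_sup_right (Subgroup.mem_zpowers h))).2
    have hinj : Nat.card T * Nat.card B ≤ Nat.card (cen h) := by
      rw [← Nat.card_prod]
      refine Nat.card_le_card_of_injective
        (fun a : T × B => (⟨(a.1 : G) * a.2, mul_mem (hTc a.1.2) (hBc a.2.2)⟩ : cen h)) ?_
      rintro ⟨t, k⟩ ⟨t', k'⟩ he
      have e1 : (t : G) * k = t' * k' := congrArg Subtype.val he
      have e2 : (t' : G)⁻¹ * t = k' * (k : G)⁻¹ := by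
        rw [eq_mul_inv_iff_mul_eq, mul_assoc, e1, inv_mul_cancel_left]
      have e3 : orderOf ((t' : G)⁻¹ * t) = 1 := by
        obtain ⟨i, hi⟩ := isQ_of_mem S.2 (mul_mem (inv_mem t'.2.1) t.2.1)
        have hc2 : (orderOf ((t' : G)⁻¹ * t)).Coprime (p ^ i) := by
          rw [e2]
          exact (Transfer.coprime_orderOf_of_mem sp.K_cop
            (mul_mem (hBK k'.2) (inv_mem (hBK k.2)))).pow_right i
        rw [hi, Nat.coprime_self] at hc2
        rw [hi, hc2]
      rw [orderOf_eq_one_iff] at e3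
      have ht : (t : G) = t' := (inv_mul_eq_one.mp e3).symm
      rw [ht] at e1
      exact Prod.ext (Subtype.ext ht) (Subtype.ext (mul_left_cancel e1))
    rw [heq, hTcard] at hinj
    have := Nat.le_of_mul_le_mul_left hinj (Nat.mul_pos hpF.out.pos Nat.card_pos)
    omega
  have hTab : ∀ t ∈ T, ∀ t' ∈ T, Commute t t' := by
    have hA : ((S : Subgroup G) ⊓ Subgroup.center G) ⊔ Subgroup.zpowers w = T := by
      refine Subgroup.eq_of_le_of_card_ge (sup_le (inf_le_inf_left _ (center_le_cen w))
        (Subgroup.zpowers_le.mpr ⟨hwS, self_mem_cen w⟩)) ?_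
      rw [hTcard]
      exact mul_card_le le_sup_left (S.2.to_le (sup_le inf_le_left (Subgroup.zpowers_le.mpr hwS)))
        (Subgroup.mem_sup_right (Subgroup.mem_zpowers w)) fun h => hwnc h.2
    intro t ht t' ht'
    have h1 : T ≤ cen t := by
      rw [← hA]
      refine sup_le (fun v hv => center_le_cen t hv.2) (Subgroup.zpowers_le.mpr ?_)
      exact mem_cen_comm.mp ht.2
    exact (mem_cen.mp (h1 ht') : Commute t' t).symm
  have hCab : ∀ a ∈ C, ∀ b ∈ C, Commute a b := by
    intro a ha b hb
    obtain ⟨t, ht, k, hk, rfl⟩ := sp.prod a ha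
    obtain ⟨t', ht', k', hk', rfl⟩ := sp.prod b hb
    have e1 : Commute t t' := hTab t (hspT ▸ ht) t' (hspT ▸ ht')
    have e2 : Commute k k' := mem_cen.mp (hKab k' hk' hk)
    exact (e1.mul_right (sp.comm t ht k' hk')).mul_left ((sp.comm t' ht' k hk).symm.mul_right e2)
  refine ⟨?_, ⟨C, hCn, ?_, hwidx, ⟨⟨fun a b => Subtype.ext (hCab a a.2 b b.2)⟩⟩⟩,
    ⟨K, hKn, sp.K_cop, ?_⟩, hcomm⟩
  · -- count the Sylow subgroups
    set N := Subgroup.normalizer ((S : Subgroup G) : Set G) with hN
    have hNeq : Nat.card (S : Subgroup G) * Nat.card ↥(K ⊓ Subgroup.center G) = Nat.card N := by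
      rw [← Nat.card_prod]
      refine Nat.card_eq_of_bijective (fun a : ↥(S : Subgroup G) × ↥(K ⊓ Subgroup.center G) =>
        (⟨(a.1 : G) * a.2, mul_mem (Subgroup.le_normalizer a.1.2)
          (mem_normalizer_of_forall fun s hs => by
            rw [← Subgroup.mem_center_iff.mp a.2.2.2 s, mul_inv_cancel_right]; exact hs)⟩ : N)) ⟨?_, ?_⟩
      · rintro ⟨t, k⟩ ⟨t', k'⟩ he
        have e1 : (t : G) * k = t' * k' := congrArg Subtype.val he
        have e2 : (t' : G)⁻¹ * t = k' * (k : G)⁻¹ := by
          rw [eq_mul_inv_iff_mul_eq, mul_assoc, e1, inv_mul_cancel_left]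
        have e3 : orderOf ((t' : G)⁻¹ * t) = 1 := by
          obtain ⟨i, hi⟩ := isQ_of_mem S.2 (mul_mem (inv_mem t'.2) t.2)
          have hc2 : (orderOf ((t' : G)⁻¹ * t)).Coprime (p ^ i) := by
            rw [e2]
            exact (Transfer.coprime_orderOf_of_mem sp.K_cop
              (mul_mem k'.2.1 (inv_mem k.2.1))).pow_right i
          rw [hi, Nat.coprime_self] at hc2
          rw [hi, hc2]
        rw [orderOf_eq_one_iff] at e3
        have ht : (t : G) = t' := (inv_mul_eq_one.mp e3).symm
        rw [ht] at e1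
        exact Prod.ext (Subtype.ext ht) (Subtype.ext (mul_left_cancel e1))
      · rintro ⟨g, hgN⟩
        have hgtop : g ∈ (S : Subgroup G) ⊔ C := by rw [sup_comm, htop]; trivial
        obtain ⟨s, hs, c, hc, rfl⟩ := Subgroup.mem_sup_of_normal_right.mp hgtop
        obtain ⟨t, ht, k, hk, rfl⟩ := sp.prod c hc
        have htS : t ∈ (S : Subgroup G) := (hspT ▸ ht : t ∈ T).1
        have hkN : k ∈ N := by
          have h1 : (s * t)⁻¹ * (s * (t * k)) ∈ N :=
            mul_mem (inv_mem (Subgroup.le_normalizer (mul_mem hs htS))) hgN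
          rwa [← mul_assoc s, inv_mul_cancel_left] at h1
        have hky : Commute y k := by
          have h1 : y⁻¹ * (k * y * k⁻¹) ∈ (S : Subgroup G) :=
            mul_mem (inv_mem hyS) ((Subgroup.mem_normalizer_iff.mp hkN y).mp hyS)
          have h2 : y⁻¹ * (k * y * k⁻¹) ∈ K := by
            rw [← mul_assoc, ← mul_assoc]
            refine mul_mem ?_ (inv_mem hk)
            have := hKn.conj_mem k hk y⁻¹
            simpa using this
          obtain ⟨i, hi⟩ := isQ_of_mem S.2 h1
          have h3 := (Transfer.coprime_orderOf_of_mem sp.K_cop h2).pow_right i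
          rw [hi, Nat.coprime_self] at h3
          rw [h3, orderOf_eq_one_iff, inv_mul_eq_one] at hi
          exact mul_inv_eq_iff_eq_mul.mp hi.symm |>.symm
        exact ⟨(⟨s * t, mul_mem hs htS⟩, ⟨k, hk, hfix k hk y hyS hyC hky⟩),
          Subtype.ext (mul_assoc s t k)⟩
    have hidx : N.index = n := by
      have h1 := Subgroup.card_mul_index N
      rw [← hNeq, hcardG, ← hnK] at h1
      refine Nat.eq_of_mul_eq_mul_left (Nat.mul_pos Nat.card_pos Nat.card_pos :
        0 < Nat.card (S : Subgroup G) * Nat.card ↥(K ⊓ Subgroup.center G)) ?_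
      rw [h1]; ring
    have hmod := card_sylow_modEq_one p G
    rw [S.card_eq_index_normalizer] at hmod
    replace hmod : n ≡ 1 [MOD p] := by
      rw [← hidx]; exact hmod
    exact (Nat.modEq_iff_dvd' (by have := H.hn; omega)).mp hmod.symm
  · ext g
    constructor
    · intro hgC
      have hle : C ≤ cen g := fun c hc => mem_cen.mpr (hCab c hc g hgC).eq
      have h1 : (cen g).index ∣ p := hwidx ▸ Subgroup.index_dvd_of_le hle
      exact (Nat.dvd_prime hpF.out).mp h1
    · intro hgi
      by_contra hgC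
      obtain ⟨a, b, rfl, hab, ha, hb, -, -⟩ := exists_parts (q := p) g
      have hbC : b ∈ C := sp.K_le (hpK b hb)
      have haC : a ∉ C := fun h => hgC (C.mul_mem h hbC)
      have hco : (orderOf a).Coprime (orderOf b) := by
        obtain ⟨i, hi⟩ := ha
        rw [hi]; exact hb.symm.pow_left i
      have h1 : (cen a).index ∣ p := by
        refine (Subgroup.index_dvd_of_le (cen_le_cen_of_mem (mem_zpowers_mul hab hco))).trans ?_
        rcases hgi with h | h <;> rw [h]
        exact one_dvd p
      have haz : IsPGroup p (Subgroup.zpowers a) := by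
        obtain ⟨i, hi⟩ := ha
        exact IsPGroup.of_card (n := i) (by rw [Nat.card_zpowers, hi])
      obtain ⟨Q, hQ⟩ := haz.exists_le_sylow
      obtain ⟨h, hhQ⟩ := MulAction.exists_smul_eq G Q S
      have hvS : h * a * h⁻¹ ∈ (S : Subgroup G) := by
        rw [← hhQ]
        exact Subgroup.smul_mem_pointwise_smul a (MulAut.conj h) (Q : Subgroup G)
          (hQ (Subgroup.mem_zpowers a))
      have hvC : h * a * h⁻¹ ∉ C := fun hv => haC (by
        have := hCn.conj_mem _ hv h⁻¹
        simpa [mul_assoc] using this)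
      have h2 := hyidx _ hvS hvC
      rw [index_cen_conj] at h2
      rw [h2] at h1
      have := Nat.le_of_dvd hpF.out.pos h1
      have := H.hn
      have := hpF.out.two_le
      nlinarith
  · obtain ⟨a, ha⟩ := IsPGroup.iff_card.mp S.2
    refine ⟨a, ?_⟩
    have h1 := Subgroup.card_mul_index K
    rw [hcardG, mul_comm (Nat.card (S : Subgroup G)), ha] at h1
    exact Nat.eq_of_mul_eq_mul_left Nat.card_pos h1

end CfsgLib.ClassThree
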