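import Cfsg.Agent.Lib.ClassThree.Prime
import Cfsg.Agent.Lib.Critical.Basic

/-!
`m` is a prime and every Sylow subgroup for it has a good element; the elements of class size at
most `m` form a subgroup.
-/

set_option autoImplicit false
set_option linter.style.haveILetI false
set_option linter.unusedSectionVars false

namespace CfsgLib.ClassThree

open CfsgLib.CentMaxNormal CfsgLib.TwoClassSizes
open scoped Pointwise

variable {G : Type*} [Group G] [Finite G] {p : ℕ} [hpF : Fact p.Prime] {m n : ℕ}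

theorem Hyp.exists_prime_pow (H : Hyp G m n) (hpm : p ∣ m) : ∃ a : ℕ, m = p ^ a := by
  have hfac : ∀ {d}, Nat.Prime d → d ∣ m → d = p := by
    intro d hd hdm
    by_contra hne
    haveI := Fact.mk hd
    have h1 := H.dvd_sub_one (q := p) (s := d) hpm hdm hne
    have h2 := H.dvd_sub_one (q := d) (s := p) hdm hpm (Ne.symm hne)
    have h3 := Nat.le_of_dvd (by have := hpF.out.two_le; omega) h1
    have h4 := Nat.le_of_dvd (by have := hd.two_le; omega) h2
    have := hpF.out.two_le
    omega
  exact ⟨_, Nat.eq_prime_pow_of_unique_prime_dvd (by have := H.hm; omega) hfac⟩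

theorem Hyp.fact_index_ne (H : Hyp G m n) {a : ℕ} (hma : m = p ^ a) {r : ℕ} (hr : r.Prime)
    (hrp : r ≠ p) {g : G} (hg : g ∉ Subgroup.center G) :
    ((cen g).index = m ∧ (cen g).index.factorization r = 0) ∨
      ((cen g).index = m * n ∧ (cen g).index.factorization r = n.factorization r) := by
  have hm0 : m.factorization r = 0 := by
    rw [hma, Nat.factorization_eq_zero_of_not_dvd]
    exact fun h => hrp ((Nat.prime_dvd_prime_iff_eq hr hpF.out).mp (hr.dvd_of_dvd_pow h))
  rcases H.idx g hg with h | h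
  · exact Or.inl ⟨h, by rw [h, hm0]⟩
  · refine Or.inr ⟨h, ?_⟩
    rw [h, Nat.factorization_mul (by have := H.hm; omega) (by have := H.hn; omega),
      Finsupp.add_apply, hm0, zero_add]

theorem fact_add_index {r : ℕ} (g : G) :
    (Nat.card (cen g)).factorization r + (cen g).index.factorization r =
      (Nat.card G).factorization r := by
  rw [← Subgroup.card_mul_index (cen g),
    Nat.factorization_mul Nat.card_pos.ne' Subgroup.index_ne_zero_of_finite, Finsupp.add_apply]

theorem Hyp.exists_r (H : Hyp G m n) (hpm : p ∣ m) : ∃ r : ℕ, r.Prime ∧ r ∣ n ∧ r ≠ p :=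
  ⟨n.minFac, Nat.minFac_prime (by have := H.hn; omega), Nat.minFac_dvd n,
    fun h => H.not_dvd_n hpm (h ▸ Nat.minFac_dvd n)⟩

/-- There is a noncentral element of order prime to `p`. -/
theorem Hyp.exists_coprime_noncentral (H : Hyp G m n) (hpm : p ∣ m) :
    ∃ u : G, (orderOf u).Coprime p ∧ u ∉ Subgroup.center G := by
  obtain ⟨r, hr, hrn, hrp⟩ := H.exists_r hpm
  haveI := Fact.mk hr
  obtain ⟨R⟩ := (inferInstance : Nonempty (Sylow r G))
  obtain ⟨g, hg⟩ := H.exmn
  by_contra hcon
  push Not at hcon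
  have hle : (R : Subgroup G) ≤ cen g := fun u hu => center_le_cen g (hcon u
    ((isQ_of_mem R.2 hu).coprime fun h => hrp ((Nat.prime_dvd_prime_iff_eq hr hpF.out).mp h)))
  have h1 := isQ_le_factorization R.2 hle
  rw [R.card_eq_multiplicity] at h1
  have h2 := (Nat.pow_le_pow_iff_right hr.one_lt).mp h1
  have h3 := fact_add_index (r := r) g
  have h4 : 0 < (cen g).index.factorization r := by
    refine hr.factorization_pos_of_dvd Subgroup.index_ne_zero_of_finite ?_
    rw [hg]; exact dvd_mul_of_dvd_right hrn m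
  omega

/-- Some Sylow subgroup has a good element. -/
theorem Hyp.exists_good (H : Hyp G m n) (hpm : p ∣ m) :
    ∃ (S : Sylow p G) (x : G), Good p (S : Subgroup G) x := by
  by_contra hcon
  have hdeg : ∀ (S : Sylow p G) (x : G), x ∈ (S : Subgroup G) → x ∉ Subgroup.center G →
      x ^ p ∈ Subgroup.center G → Twist (S : Subgroup G) x →
      ∀ k ∈ cen x, (orderOf k).Coprime p → k ∈ Subgroup.center G := by
    intro S x h1 h2 h3 h4 k hk hk'
    by_contra hknc
    exact hcon ⟨S, x, h1, h2, h3, h4, k, hk, hk', hknc⟩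
  obtain ⟨a, hma⟩ := H.exists_prime_pow hpm
  obtain ⟨S₀⟩ := (inferInstance : Nonempty (Sylow p G))
  obtain ⟨x₀, hx₀, hx₀nc, hx₀p, hx₀t⟩ := H.exists_twist hpm S₀
  have hK0 := hdeg S₀ x₀ hx₀ hx₀nc hx₀p hx₀t
  obtain ⟨u₀, hu₀, hu₀nc⟩ := H.exists_coprime_noncentral hpm
  -- replace `u₀` by an element of prime power order
  obtain ⟨r, hr, u, hu, hunc⟩ : ∃ r : ℕ, r.Prime ∧ ∃ u : G, IsQ r u ∧
      u ∉ Subgroup.center G ∧ r ≠ p := by
    by_contra h
    push Not at h
    refine hu₀nc (mem_of_prime_power_parts fun y hy r k hr hyk => ?_)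
    by_contra hync
    have hrp := h r hr y ⟨k, hyk⟩ hync
    have hd := hu₀.coprime_dvd_left (orderOf_dvd_of_mem_zpowers hy)
    rw [hyk, hrp] at hd
    rcases Nat.eq_zero_or_pos k with hk | hk
    · rw [hk, pow_zero, orderOf_eq_one_iff] at hyk
      exact hync (hyk ▸ one_mem _)
    · exact absurd ((hpF.out.coprime_iff_not_dvd.mp hd.symm) (dvd_pow_self p hk.ne')) (fun h => h)
  obtain ⟨hu, hunc, hrp⟩ := hu, hunc
  haveI := Fact.mk hr
  have hup : (orderOf u).Coprime p := hu.coprime fun h => hrp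
    ((Nat.prime_dvd_prime_iff_eq hr hpF.out).mp h)
  -- centralizers containing noncentral `r`-elements have index `m`
  have hkey : ∀ g : G, g ∉ Subgroup.center G → u ∈ cen g → (cen g).index = m := by
    intro g hg hug
    rcases H.fact_index_ne hma hr hrp hg with h | ⟨-, h⟩
    · exact h.1
    exfalso
    obtain ⟨R⟩ := (inferInstance : Nonempty (Sylow r (cen x₀)))
    set R0 := (R : Subgroup (cen x₀)).map (cen x₀).subtype with hR0
    have hR0c : R0 ≤ Subgroup.center G := fun w hw =>
      hK0 w (Subgroup.map_subtype_le _ hw) ((isQ_of_mem (R.2.map _) hw).coprime fun h => hrp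
        ((Nat.prime_dvd_prime_iff_eq hr hpF.out).mp h))
    have hcard : Nat.card R0 = r ^ (Nat.card (cen x₀)).factorization r := by
      rw [hR0, Subgroup.card_map_of_injective (Subgroup.subtype_injective _), R.card_eq_multiplicity]
    have hle : (Nat.card (cen g)).factorization r ≤ (Nat.card (cen x₀)).factorization r := by
      have h1 := fact_add_index (r := r) g
      have h2 := fact_add_index (r := r) x₀
      rcases H.fact_index_ne hma hr hrp hx₀nc with h3 | h3 <;> omega
    have hn : Subgroup.zpowers u ≤ Subgroup.normalizer (R0 : Set G) :=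
      Subgroup.zpowers_le.mpr (mem_normalizer_of_forall fun w hw => by
        rw [Subgroup.mem_center_iff.mp (hR0c hw) u, mul_inv_cancel_right]; exact hw)
    have huz : IsPGroup r (Subgroup.zpowers u) := by
      obtain ⟨i, hi⟩ := hu
      exact IsPGroup.of_card (n := i) (by rw [Nat.card_zpowers, hi])
    have h2 := isQ_le_factorization (C := cen g)
      (IsPGroup.to_sup_of_normal_left' (R.2.map _) huz hn)
      (sup_le (fun w hw => center_le_cen g (hR0c hw)) (Subgroup.zpowers_le.mpr hug))
    have h3 : Nat.card ↥(R0 ⊔ Subgroup.zpowers u) ≤ Nat.card R0 := by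
      rw [hcard]
      exact h2.trans (Nat.pow_le_pow_right hr.pos hle)
    exact hunc (hR0c ((Subgroup.eq_of_le_of_card_ge le_sup_left h3).symm ▸
      Subgroup.mem_sup_right (Subgroup.mem_zpowers u)))
  obtain ⟨t, htu, htp, htnc⟩ := H.exists_noncentral_q hpm hunc
  have hut : u ∈ cen t := mem_cen_comm.mp htu
  have hidx : (cen t).index = m := hkey t htnc hut
  obtain ⟨sp⟩ := exists_split H hpm htnc htp
  obtain ⟨P, hP⟩ := sp.hT.exists_le_sylow
  have hPC : (P : Subgroup G) ⊓ cen t = sp.T :=
    le_antisymm (fun w hw => sp.memT w hw.2 (isQ_of_mem P.2 hw.1)) (le_inf hP sp.T_le)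
  have htP : t ∈ (P : Subgroup G) := hP (sp.memT t (self_mem_cen t) htp)
  -- every element is a product
  have hprod : ∀ g : G, ∃ s ∈ (P : Subgroup G), ∃ c ∈ cen t, g = s * c := by
    have hsub : ((cen t).subgroupOf (P : Subgroup G)).index = (cen t).index := by
      have h1 := Subgroup.card_mul_index ((cen t).subgroupOf (P : Subgroup G))
      have hc : Nat.card ((cen t).subgroupOf (P : Subgroup G)) = Nat.card sp.T := by
        rw [← Subgroup.card_map_of_injective (P : Subgroup G).subtype_injective,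
          Subgroup.subgroupOf_map_subtype, inf_comm, hPC]
      rw [hc, sp.card_T, P.card_eq_multiplicity] at h1
      have h2 := fact_add_index (r := p) t
      rw [hidx, hma, Nat.Prime.factorization_pow hpF.out, Finsupp.single_eq_same] at h2
      rw [← h2, pow_add, ← hma] at h1
      rw [hidx]
      exact Nat.eq_of_mul_eq_mul_left (Nat.pow_pos hpF.out.pos) h1
    let φ : (P : Subgroup G) ⧸ (cen t).subgroupOf (P : Subgroup G) → G ⧸ cen t :=
      Quotient.map' (fun s => (s : G)) fun a b h => by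
        rw [QuotientGroup.leftRel_apply] at h ⊢
        exact h
    have hinj : Function.Injective φ := by
      intro a b h
      induction a using Quotient.inductionOn'
      induction b using Quotient.inductionOn'
      rename_i a b
      refine Quotient.sound' ?_
      have h' : ((a : G) : G ⧸ cen t) = ((b : G) : G ⧸ cen t) := h
      rw [QuotientGroup.leftRel_apply]
      exact (QuotientGroup.eq.mp h' : _)
    have hsurj : Function.Surjective φ :=
      (hinj.bijective_of_nat_card_le (by
        rw [← Subgroup.index_eq_card, ← Subgroup.index_eq_card, hsub])).2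
    intro g
    obtain ⟨a, ha⟩ := hsurj (g : G ⧸ cen t)
    induction a using Quotient.inductionOn'
    rename_i a
    have h' : ((a : G) : G ⧸ cen t) = (g : G ⧸ cen t) := ha
    exact ⟨a, a.2, (a : G)⁻¹ * g, QuotientGroup.eq.mp h', by group⟩
  set O := Subgroup.normalClosure ({t} : Set G) with hO
  have hOP : O ≤ (P : Subgroup G) := by
    rw [hO, Subgroup.normalClosure, Subgroup.closure_le]
    intro w hw
    obtain ⟨b, hb, hbw⟩ := Group.mem_conjugatesOfSet_iff.mp hw
    rw [Set.mem_singleton_iff] at hb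
    subst hb
    obtain ⟨g, rfl⟩ := isConj_iff.mp hbw
    obtain ⟨s, hs, c, hc, rfl⟩ := hprod g
    have : s * c * b * (s * c)⁻¹ = s * b * s⁻¹ := by
      calc s * c * b * (s * c)⁻¹ = s * (c * b) * c⁻¹ * s⁻¹ := by group
        _ = s * b * s⁻¹ := by rw [mem_cen.mp hc]; group
    rw [this]
    exact mul_mem (mul_mem hs htP) (inv_mem hs)
  set π := QuotientGroup.mk' (Subgroup.center G) with hπ
  set Q := (P : Subgroup G).map π with hQ
  haveI : Group.IsNilpotent Q := (P.2.map π).isNilpotent
  set N := (O.map π).subgroupOf Q with hN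
  haveI : N.Normal := by
    haveI : (O.map π).Normal := (Subgroup.normalClosure_normal).map π (QuotientGroup.mk'_surjective _)
    rw [hN]; infer_instance
  have hNne : N ≠ ⊥ := by
    intro h
    have h1 : (⟨π t, ⟨t, htP, rfl⟩⟩ : Q) ∈ N := ⟨t, Subgroup.subset_normalClosure rfl, rfl⟩
    rw [h, Subgroup.mem_bot] at h1
    exact htnc ((QuotientGroup.eq_one_iff t).mp (congrArg Subtype.val h1))
  have hne := Critical.inf_center_ne_bot N hNne
  have hpg : IsPGroup p ↥(N ⊓ Subgroup.center Q) := ((P.2.map π).to_subgroup N).to_le inf_le_left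
  haveI : Nontrivial ↥(N ⊓ Subgroup.center Q) := (Subgroup.nontrivial_iff_ne_bot _).mpr hne
  obtain ⟨k, hk⟩ := IsPGroup.iff_card.mp hpg
  have hk0 : k ≠ 0 := fun h => by
    rw [h, pow_zero] at hk
    exact absurd (Finite.one_lt_card (α := ↥(N ⊓ Subgroup.center Q))) (by omega)
  obtain ⟨⟨⟨ō, hōQ⟩, hoN, hoC⟩, ho⟩ := exists_prime_orderOf_dvd_card' p
    (hk ▸ dvd_pow_self p hk0 : p ∣ Nat.card ↥(N ⊓ Subgroup.center Q))
  obtain ⟨o, hoO, hoe⟩ := (hoN : ō ∈ O.map π)
  have ho' : orderOf (π o) = p := by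
    rw [← ho, ← Subgroup.orderOf_coe, ← Subgroup.orderOf_coe]
    exact congrArg orderOf hoe
  have honc : o ∉ Subgroup.center G := fun h => by
    have h0 : π o = 1 := (QuotientGroup.eq_one_iff o).mpr h
    rw [h0, orderOf_one] at ho'
    exact hpF.out.one_lt.ne ho'
  have hop : o ^ p ∈ Subgroup.center G := by
    rw [← QuotientGroup.eq_one_iff]
    show π (o ^ p) = 1
    rw [map_pow, ← ho', pow_orderOf_eq_one]
  have htw : Twist (P : Subgroup G) o := fun v hv => by
    refine ⟨v * o * v⁻¹ * o⁻¹, ?_, by group⟩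
    rw [← QuotientGroup.eq_one_iff]
    show π (v * o * v⁻¹ * o⁻¹) = 1
    have h1 : π v * π o = π o * π v :=
      hoe ▸ congrArg Subtype.val (Subgroup.mem_center_iff.mp hoC ⟨π v, ⟨v, hv, rfl⟩⟩)
    rw [map_mul, map_mul, map_mul, map_inv, map_inv, h1, mul_inv_cancel_right, mul_inv_cancel]
  have hK1 := hdeg P o (hOP hoO) honc hop htw
  have huK : u ∈ sp.K := sp.memK u hut hup
  obtain ⟨c, hc, hto⟩ := htw t htP
  set d := o⁻¹ * (u * o * u⁻¹) with hd
  have hdO : d ∈ O := mul_mem (inv_mem hoO) (Subgroup.normalClosure_normal.conj_mem o hoO u)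
  have hdT : d ∈ sp.T := by
    rw [← hPC]
    refine ⟨hOP hdO, mem_cen.mpr ?_⟩
    have hut' : Commute u t := mem_cen.mp hut
    have h2 : t * (u * o * u⁻¹) * t⁻¹ = c * (u * o * u⁻¹) := by
      calc t * (u * o * u⁻¹) * t⁻¹ = u * (t * o * t⁻¹) * u⁻¹ := by
            rw [← mul_assoc, ← mul_assoc, ← hut'.eq]
            calc u * t * o * u⁻¹ * t⁻¹ = u * t * o * (t * u)⁻¹ := by group
              _ = u * t * o * (u * t)⁻¹ := by rw [hut'.eq]
              _ = u * (t * o * t⁻¹) * u⁻¹ := by group
        _ = c * (u * o * u⁻¹) := by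
            rw [hto, ← mul_assoc u c, Subgroup.mem_center_iff.mp hc u]; group
    have h3 : t * d * t⁻¹ = d := by
      calc t * d * t⁻¹ = (t * o * t⁻¹)⁻¹ * (t * (u * o * u⁻¹) * t⁻¹) := by rw [hd]; group
        _ = (c * o)⁻¹ * (c * (u * o * u⁻¹)) := by rw [hto, h2]
        _ = d := by rw [hd]; group
    exact (mul_inv_eq_iff_eq_mul.mp h3).symm
  have huo : Commute u o := by
    refine commute_of_twist (c := d) (by rw [hd]; group) (sp.comm d hdT u huK).symm ?_
    obtain ⟨j, hj⟩ := isQ_of_mem sp.hT hdT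
    rw [hj]; exact hup.pow_right j
  exact hunc (hK1 u (mem_cen.mpr huo.eq) hup)

theorem Good.conj {S S' : Sylow p G} {x g : G} (hg : Good p (S : Subgroup G) x) (h : g • S = S') :
    Good p (S' : Subgroup G) (g * x * g⁻¹) := by
  refine ⟨?_, fun hc => hg.nc (mem_center_conj_iff.mp hc), ?_, ?_, ?_⟩
  · rw [← h]; exact Subgroup.smul_mem_pointwise_smul x (MulAut.conj g) (S : Subgroup G) hg.mem
  · rw [conj_pow]; exact mem_center_conj_iff.mpr hg.pow
  · intro u hu
    rw [← h] at hu
    have h1 : g⁻¹ * u * g ∈ (S : Subgroup G) := by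
      have h2 := Subgroup.mem_pointwise_smul_iff_inv_smul_mem.mp
        (hu : u ∈ MulAut.conj g • (S : Subgroup G))
      simpa using h2
    obtain ⟨c, hc, h2⟩ := hg.tw _ h1
    refine ⟨c, hc, ?_⟩
    calc u * (g * x * g⁻¹) * u⁻¹ = g * ((g⁻¹ * u * g) * x * (g⁻¹ * u * g)⁻¹) * g⁻¹ := by group
      _ = c * (g * x * g⁻¹) := by
          rw [h2, ← mul_assoc g c, Subgroup.mem_center_iff.mp hc g]; group
  · obtain ⟨k, hk, hk', hknc⟩ := hg.ext
    refine ⟨g * k * g⁻¹, ?_, by rwa [CfsgLib.Transfer.orderOf_conj],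
      fun hc => hknc (mem_center_conj_iff.mp hc)⟩
    exact mem_cen.mpr (Commute.map (mem_cen.mp hk : Commute k x) (MulAut.conj g).toMonoidHom).eq

theorem Hyp.good (H : Hyp G m n) (hpm : p ∣ m) (S : Sylow p G) :
    ∃ x, Good p (S : Subgroup G) x := by
  obtain ⟨S₀, x, hg⟩ := H.exists_good hpm
  obtain ⟨g, h⟩ := MulAction.exists_smul_eq G S₀ S
  exact ⟨_, hg.conj h⟩

theorem Hyp.eq_prime (H : Hyp G m n) (hpm : p ∣ m) : m = p := by
  obtain ⟨a, hma⟩ := H.exists_prime_pow hpm
  obtain ⟨S⟩ := (inferInstance : Nonempty (Sylow p G))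
  obtain ⟨x, hg⟩ := H.good hpm S
  have h1 := hg.fact_one H hpm
  rw [hma, Nat.Prime.factorization_pow hpF.out, Finsupp.single_eq_same] at h1
  rw [hma, h1, pow_one]

end CfsgLib.ClassThree
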