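import Cfsg.Agent.Lib.ClassThree.Rank

/-!
The middle class size is a prime and a Sylow subgroup has a good element.
-/

set_option autoImplicit false
set_option linter.style.haveILetI false
set_option linter.unusedSectionVars false

namespace CfsgLib.ClassThree

open CfsgLib.CentMaxNormal CfsgLib.TwoClassSizes
open scoped Pointwise

variable {G : Type*} [Group G] [Finite G] {q : ℕ} [hqF : Fact q.Prime] {m n : ℕ}

theorem Hyp.sylow_not_le_center (H : Hyp G m n) (hqm : q ∣ m) (S : Sylow q G) :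
    ¬ (S : Subgroup G) ≤ Subgroup.center G := fun h => by
  obtain ⟨g, hg⟩ := H.exm
  have hg' : g ∉ Subgroup.center G := fun hc => by
    rw [index_cen_eq_one.mpr hc] at hg
    exact absurd H.hm (by omega)
  have h1 := isQ_le_factorization S.2 (C := cen g) (h.trans (center_le_cen g))
  rw [S.card_eq_multiplicity] at h1
  have h2 := (Nat.pow_le_pow_iff_right hqF.out.one_lt).mp h1
  have h3 := H.fact_cen hqm hg'
  have h4 := H.factorization_pos hqm
  omega

theorem Hyp.exists_noncentral_q (H : Hyp G m n) (hqm : q ∣ m) {g : G}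
    (hg : g ∉ Subgroup.center G) : ∃ t ∈ cen g, IsQ q t ∧ t ∉ Subgroup.center G := by
  obtain ⟨S⟩ := (inferInstance : Nonempty (Sylow q G))
  obtain ⟨u, hu, hu'⟩ := Set.not_subset.mp (H.sylow_not_le_center hqm S)
  have huq : IsQ q u := isQ_of_mem S.2 hu
  by_contra hcon
  push Not at hcon
  obtain ⟨R⟩ := (inferInstance : Nonempty (Sylow q (cen g)))
  have hle : (R : Subgroup (cen g)).map (cen g).subtype ≤ (S : Subgroup G) ⊓ Subgroup.center G :=
    fun t ht => by
      have hz := hcon t (Subgroup.map_subtype_le _ ht) (isQ_of_mem (R.2.map _) ht)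
      exact ⟨center_mem_sylow S hz (isQ_of_mem (R.2.map _) ht), hz⟩
  have h1 := Nat.le_of_dvd Nat.card_pos (Subgroup.card_dvd_of_le hle)
  rw [Subgroup.card_map_of_injective (Subgroup.subtype_injective _), R.card_eq_multiplicity] at h1
  have h2 : q * Nat.card ↥((S : Subgroup G) ⊓ Subgroup.center G) ≤
      Nat.card ↥((S : Subgroup G) ⊓ cen u) :=
    mul_card_le (inf_le_inf_left _ (center_le_cen u)) (S.2.to_le inf_le_left)
      (⟨hu, self_mem_cen u⟩ : u ∈ (S : Subgroup G) ⊓ cen u) fun h => hu' h.2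
  have h3 := isQ_le_factorization (A := (S : Subgroup G) ⊓ cen u) (C := cen u)
    (S.2.to_le inf_le_left) inf_le_right
  rw [H.fact_cen_eq hqm (show u ∉ Subgroup.center G from hu') hg] at h3
  have h4 : 2 ≤ q := hqF.out.two_le
  have h5 : 0 < Nat.card ↥((S : Subgroup G) ⊓ Subgroup.center G) := Nat.card_pos
  nlinarith

theorem Hyp.exists_twist (H : Hyp G m n) (hqm : q ∣ m) (S : Sylow q G) :
    ∃ x ∈ (S : Subgroup G), x ∉ Subgroup.center G ∧ x ^ q ∈ Subgroup.center G ∧
      Twist (S : Subgroup G) x :=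
  exists_central_mod S.2 (H.sylow_not_le_center hqm S)

/-- With two primes in `m` every candidate is good. -/
theorem Hyp.good_of_two (H : Hyp G m n) (hqm : q ∣ m) {s : ℕ} [hsF : Fact s.Prime] (hsm : s ∣ m)
    (hsq : s ≠ q) (S : Sylow q G) : ∃ x, Good q (S : Subgroup G) x := by
  obtain ⟨x, hx, hxnc, hxp, htw⟩ := H.exists_twist hqm S
  obtain ⟨k, hk, hks, hknc⟩ := H.exists_noncentral_q (q := s) hsm hxnc
  exact ⟨x, hx, hxnc, hxp, htw, k, hk,
    hks.coprime fun h => hsq ((Nat.prime_dvd_prime_iff_eq hsF.out hqF.out).mp h), hknc⟩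

theorem exists_pow_prime_pow {x : G} (hx : IsQ q x) : ∃ k : ℕ, x ^ q ^ k = 1 := isQ_iff.mp hx

-- A second prime divisor `s` of `m` divides `q - 1`. -/
set_option maxHeartbeats 1000000 in
theorem Hyp.dvd_sub_one (H : Hyp G m n) (hqm : q ∣ m) {s : ℕ} [hsF : Fact s.Prime] (hsm : s ∣ m)
    (hsq : s ≠ q) : s ∣ q - 1 := by
  classical
  obtain ⟨S⟩ := (inferInstance : Nonempty (Sylow q G))
  obtain ⟨x, hg⟩ := H.good_of_two hqm hsm hsq S
  obtain ⟨sp⟩ := exists_split H hqm hg.nc hg.isQ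
  have hT := hg.split_T H hqm sp
  have hqs : ¬ q ∣ s := fun h => hsq ((Nat.prime_dvd_prime_iff_eq hqF.out hsF.out).mp h).symm
  have hidx : ∀ g : cen x, ¬ s ∣ (cen g).index := by
    intro g
    obtain ⟨t, ht, k, hk, hgk⟩ := sp.prod g g.2
    refine not_dvd_index_of_fact ?_
    have hktop : ∀ w ∈ cen x, Commute w t := by
      intro w hw
      obtain ⟨t', ht', k', hk', rfl⟩ := sp.prod w hw
      exact (hg.T_comm H hqm (hT ▸ ht') (hT ▸ ht)).mul_left (sp.comm t ht k' hk').symm
    have hkco : (orderOf k).Coprime q := Transfer.coprime_orderOf_of_mem sp.K_cop hk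
    have heq : cen (g : G) ⊓ cen x = cen k ⊓ cen x := by
      ext w
      simp only [Subgroup.mem_inf]
      constructor
      · rintro ⟨h1, h2⟩
        refine ⟨mem_cen.mpr ?_, h2⟩
        have hk2 : k = t⁻¹ * (g : G) := by rw [hgk, inv_mul_cancel_left]
        rw [hk2]
        exact ((hktop w h2).inv_right.mul_right (mem_cen.mp h1 : Commute w (g : G))).eq
      · rintro ⟨h1, h2⟩
        refine ⟨mem_cen.mpr ?_, h2⟩
        rw [hgk]
        exact ((hktop w h2).mul_right (mem_cen.mp h1 : Commute w k)).eq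
    rw [card_cen_subgroup, heq]
    by_cases hkz : k ∈ Subgroup.center G
    · rw [cen_eq_top_iff.mpr hkz, top_inf_eq]
    have hxk : Commute x k := (mem_cen.mp (sp.K_le hk) : Commute k x).symm
    have hco : (orderOf x).Coprime (orderOf k) := by
      obtain ⟨i, hi⟩ := hg.isQ
      rw [hi]; exact hkco.symm.pow_left i
    have hxknc : x * k ∉ Subgroup.center G := fun h =>
      hg.nc ((Subgroup.zpowers_le.mpr h) (mem_zpowers_mul hxk hco))
    rw [inf_comm, ← cen_mul_eq hxk hco]
    exact H.fact_cen_eq hsm hg.nc hxknc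
  have hcentral : ∀ w ∈ cen x, IsQ s w → ∀ v ∈ cen x, Commute v w := by
    intro w hw hws v hv
    have hw' : IsQ s (⟨w, hw⟩ : cen x) := by
      obtain ⟨i, hi⟩ := hws
      exact ⟨i, by rw [Subgroup.orderOf_mk, hi]⟩
    exact congrArg Subtype.val
      (Subgroup.mem_center_iff.mp (mem_center_of_index hidx hw') ⟨v, hv⟩)
  obtain ⟨U₀⟩ := (inferInstance : Nonempty (Sylow s (cen x)))
  set U := (U₀ : Subgroup (cen x)).map (cen x).subtype with hU
  have hUs : IsPGroup s U := U₀.2.map _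
  have hUle : U ≤ cen x := Subgroup.map_subtype_le _
  have hUcard : Nat.card U = s ^ (Nat.card (cen x)).factorization s := by
    rw [hU, Subgroup.card_map_of_injective (Subgroup.subtype_injective _), U₀.card_eq_multiplicity]
  have hUmem : ∀ w ∈ cen x, IsQ s w → w ∈ U := by
    intro w hw hws
    have hn : Subgroup.zpowers w ≤ Subgroup.normalizer (U : Set G) := by
      rw [Subgroup.zpowers_le]
      refine mem_normalizer_of_forall fun v hv => ?_
      rw [← (hcentral w hw hws v (hUle hv)).eq, mul_inv_cancel_right]; exact hv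
    have hwg : IsPGroup s (Subgroup.zpowers w) := by
      obtain ⟨i, hi⟩ := hws
      exact IsPGroup.of_card (n := i) (by rw [Nat.card_zpowers, hi])
    have h1 := eq_of_full (g := x) hUcard (IsPGroup.to_sup_of_normal_left' hUs hwg hn)
      le_sup_left (sup_le hUle (Subgroup.zpowers_le.mpr hw))
    rw [← h1]
    exact Subgroup.mem_sup_right (Subgroup.mem_zpowers w)
  obtain ⟨y, hyx, hys, hync⟩ := H.exists_noncentral_q (q := s) hsm hg.nc
  have hyU : y ∈ U := hUmem y hyx hys
  set W := Subgroup.centralizer (U : Set G) with hW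
  have hxW : cen x ≤ W := fun v hv => Subgroup.mem_centralizer_iff.mpr fun w hw =>
    (hcentral w (hUle hw) (isQ_of_mem hUs hw) v hv).eq.symm
  have hWy : W ≤ cen y := fun v hv =>
    mem_cen.mpr ((Subgroup.mem_centralizer_iff.mp hv) y hyU).symm
  obtain ⟨Ss, hSs⟩ := hUs.exists_le_sylow
  have hUlt : U < (Ss : Subgroup G) := by
    refine lt_of_le_of_ne hSs fun h => ?_
    have h1 := congrArg (fun A : Subgroup G => Nat.card A) h
    simp only [hUcard, Ss.card_eq_multiplicity] at h1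
    have h2 := Nat.pow_right_injective hsF.out.two_le h1
    have h3 := H.fact_cen hsm hg.nc
    have h4 := H.factorization_pos hsm
    omega
  obtain ⟨w, hwS, hwn, hwU⟩ : ∃ w ∈ (Ss : Subgroup G),
      w ∈ Subgroup.normalizer (U : Set G) ∧ w ∉ U := by
    haveI := Ss.2.isNilpotent
    have hlt : U.subgroupOf (Ss : Subgroup G) < ⊤ := lt_top_iff_ne_top.mpr fun h =>
      hUlt.ne (le_antisymm hSs fun a ha => by
        have : (⟨a, ha⟩ : (Ss : Subgroup G)) ∈ U.subgroupOf (Ss : Subgroup G) := h ▸ Subgroup.mem_top _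
        exact this)
    have h1 := Group.normalizerCondition_of_isNilpotent (G := ↥(Ss : Subgroup G)) (U.subgroupOf (Ss : Subgroup G)) hlt
    obtain ⟨⟨w, hw⟩, hwn, hwU⟩ := SetLike.exists_of_lt h1
    refine ⟨w, hw, mem_normalizer_of_forall fun v hv => ?_, hwU⟩
    exact (Subgroup.mem_normalizer_iff.mp hwn ⟨v, hSs hv⟩).mp hv
  have hwW : w ∉ W := by
    intro h
    have hwq : IsQ s w := isQ_of_mem Ss.2 hwS
    have h1 : U ⊔ Subgroup.zpowers w ≤ cen y :=
      sup_le ((hUle.trans hxW).trans hWy) (Subgroup.zpowers_le.mpr (hWy h))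
    have h2 := eq_of_full (g := y) (T := U)
      (by rw [hUcard, H.fact_cen_eq hsm hg.nc hync])
      (Ss.2.to_le (sup_le hSs (Subgroup.zpowers_le.mpr hwS))) le_sup_left h1
    exact hwU (h2 ▸ Subgroup.mem_sup_right (Subgroup.mem_zpowers w))
  have hwnW : ∀ v ∈ W, w * v * w⁻¹ ∈ W := by
    intro v hv
    refine Subgroup.mem_centralizer_iff.mpr fun u hu => ?_
    have hu' : w⁻¹ * u * w ∈ U := by
      have := (Subgroup.mem_normalizer_iff.mp (inv_mem hwn) u).mp hu
      simpa using this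
    have h1 := Subgroup.mem_centralizer_iff.mp hv _ hu'
    calc u * (w * v * w⁻¹) = w * (w⁻¹ * u * w * v) * w⁻¹ := by group
      _ = w * (v * (w⁻¹ * u * w)) * w⁻¹ := by rw [h1]
      _ = w * v * w⁻¹ * u := by group
  -- a Sylow `q`-subgroup of `W`
  have hTW : sp.T ≤ W := sp.T_le.trans hxW
  have hTcard : Nat.card sp.T = q ^ (Nat.card W).factorization q := by
    refine le_antisymm (isQ_le_factorization sp.hT hTW) ?_
    rw [sp.card_T]
    refine Nat.pow_le_pow_right hqF.out.pos ?_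
    rw [H.fact_cen_eq hqm hg.nc hync]
    exact (Nat.factorization_le_iff_dvd Nat.card_pos.ne' Nat.card_pos.ne').mpr
      (Subgroup.card_dvd_of_le hWy) q
  let T₁ : Sylow q W := Sylow.ofCard (sp.T.subgroupOf W) (by
    rw [Nat.card_congr (Subgroup.subgroupOfEquivOfLe hTW).toEquiv, hTcard])
  have hmapW : ∀ t ∈ sp.T, w * t * w⁻¹ ∈ W := fun t ht => hwnW t (hTW ht)
  let T₂ : Sylow q W := Sylow.ofCard ((sp.T.map (MulAut.conj w).toMonoidHom).subgroupOf W) (by
    rw [Nat.card_congr (Subgroup.subgroupOfEquivOfLe (by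
      rintro _ ⟨t, ht, rfl⟩; exact hmapW t ht)).toEquiv,
      Subgroup.card_map_of_injective (MulEquiv.injective (MulAut.conj w)), hTcard])
  obtain ⟨c, hc⟩ := MulAction.exists_smul_eq W T₂ T₁
  set g := (c : G) * w with hgdef
  have hgn : ∀ t ∈ sp.T, g * t * g⁻¹ ∈ sp.T := by
    intro t ht
    have h1 : (⟨w * t * w⁻¹, hmapW t ht⟩ : W) ∈ (T₂ : Subgroup W) := ⟨t, ht, rfl⟩
    have h2 := Subgroup.smul_mem_pointwise_smul _ (MulAut.conj c) _ h1
    have h3 : MulAut.conj c • (T₂ : Subgroup W) = (T₁ : Subgroup W) := by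
      rw [← hc]; rfl
    rw [h3] at h2
    have h4 : (c : G) * (w * t * w⁻¹) * (c : G)⁻¹ ∈ sp.T := h2
    rw [hgdef]
    simpa [mul_assoc] using h4
  have hgW : g ∉ W := fun h => hwW (by
    have := mul_mem (inv_mem c.2) h
    simpa [hgdef] using this)
  -- pass to the `s`-part
  obtain ⟨b, e, hgbe, hbe, hbs, hes, hbg, heg⟩ := exists_parts (q := s) g
  have hgN : Subgroup.zpowers g ≤ Subgroup.normalizer (sp.T : Set G) :=
    Subgroup.zpowers_le.mpr (mem_normalizer_of_forall hgn)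
  have hbW : b ∉ W := by
    intro hb
    obtain ⟨i, hi⟩ := exists_pow_prime_pow (isQ_of_mem Ss.2 hwS)
    have hgW' : g ^ s ^ i ∈ W := by
      have : ∀ j : ℕ, g ^ j * (w ^ j)⁻¹ ∈ W := by
        intro j
        induction j with
        | zero => simp
        | succ j ih =>
          have e : g ^ (j + 1) * (w ^ (j + 1))⁻¹ = (c : G) * (w * (g ^ j * (w ^ j)⁻¹) * w⁻¹) := by
            rw [pow_succ' g, pow_succ' w, hgdef]; group
          rw [e]
          exact mul_mem c.2 (hwnW _ ih)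
      have h := this (s ^ i)
      rwa [hi, inv_one, mul_one] at h
    have he : e ∈ W := by
      obtain ⟨j, hj⟩ := exists_pow_eq_self_of_coprime (x := e) (n := s ^ i)
        (hes.pow_right i).symm
      rw [← hj]
      refine pow_mem ?_ _
      have h1 : g ^ s ^ i = b ^ s ^ i * e ^ s ^ i := by rw [hgbe, hbe.mul_pow]
      have h2 : e ^ s ^ i = (b ^ s ^ i)⁻¹ * g ^ s ^ i := by rw [h1, inv_mul_cancel_left]
      rw [h2]
      exact mul_mem (inv_mem (pow_mem hb _)) hgW'
    exact hgW (hgbe ▸ mul_mem hb he)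
  have hbx : ¬ Commute b x := by
    intro hc'
    have h1 : b ∈ U := hUmem b (mem_cen.mpr hc'.eq) hbs
    exact hbW (hxW (hUle h1))
  have hxT : x ∈ sp.T := hT ▸ ⟨hg.mem, self_mem_cen x⟩
  obtain ⟨d, hd, i, hbxd⟩ := hg.exists_form H hqm
    (hT ▸ (Subgroup.mem_normalizer_iff.mp (hgN hbg) x).mp hxT :
      b * x * b⁻¹ ∈ (S : Subgroup G) ⊓ cen x)
  have hdc := hd.2
  have hiter : ∀ j : ℕ, ∃ e ∈ Subgroup.center G, b ^ j * x * (b ^ j)⁻¹ = e * x ^ i ^ j := by
    intro j
    induction j with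
    | zero => exact ⟨1, one_mem _, by simp⟩
    | succ j ih =>
      obtain ⟨e, he, h⟩ := ih
      refine ⟨e * d ^ i ^ j, mul_mem he (pow_mem hdc _), ?_⟩
      calc b ^ (j + 1) * x * (b ^ (j + 1))⁻¹ = b * (b ^ j * x * (b ^ j)⁻¹) * b⁻¹ := by
            rw [pow_succ']; group
        _ = e * (b * x * b⁻¹) ^ i ^ j := by
            rw [h, ← mul_assoc b e, Subgroup.mem_center_iff.mp he b, conj_pow]; group
        _ = e * d ^ i ^ j * x ^ i ^ (j + 1) := by
            rw [hbxd, Commute.mul_pow (Subgroup.mem_center_iff.mp hdc (x ^ i)).symm, ← pow_mul,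
              mul_comm i, ← pow_succ, mul_assoc]
  obtain ⟨k, hk⟩ := exists_pow_prime_pow hbs
  obtain ⟨e', he', hek⟩ := hiter (s ^ k)
  rw [hk, one_mul, inv_one, mul_one] at hek
  have hxo : ∀ z : ℤ, x ^ z ∈ Subgroup.center G → (q : ℤ) ∣ z := by
    intro z hz
    by_contra hnd
    obtain ⟨u, v, huv⟩ := (Int.isCoprime_iff_nat_coprime.mpr
      (hqF.out.coprime_iff_not_dvd.mpr (fun h => hnd (Int.natCast_dvd.mpr h))) : IsCoprime (q : ℤ) z)
    apply hg.nc
    rw [← zpow_one x, ← huv, zpow_add, mul_comm u, zpow_mul, zpow_natCast, mul_comm v, zpow_mul]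
    exact mul_mem (zpow_mem hg.pow u) (zpow_mem hz v)
  have h1 : (q : ℤ) ∣ (i : ℤ) ^ s ^ k - 1 := by
    refine hxo _ ?_
    have h2 : x ^ ((i : ℤ) ^ s ^ k) = e'⁻¹ * x := by
      rw [← Nat.cast_pow, zpow_natCast]
      exact eq_inv_mul_of_mul_eq hek.symm
    rw [zpow_sub, h2, zpow_one, mul_inv_cancel_right]
    exact inv_mem he'
  have hi1 : (i : ZMod q) ≠ 1 := by
    intro hi
    have hdvd : (q : ℤ) ∣ (i : ℤ) - 1 := by
      rw [← ZMod.intCast_zmod_eq_zero_iff_dvd]
      push_cast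
      rw [hi, sub_self]
    obtain ⟨z, hz⟩ := hdvd
    have hce : d * x ^ ((i : ℤ) - 1) ∈ Subgroup.center G := by
      rw [hz, zpow_mul, zpow_natCast]
      exact mul_mem hdc (zpow_mem hg.pow z)
    apply hbx
    refine commute_of_twist (c := d * x ^ ((i : ℤ) - 1)) ?_
      (Subgroup.mem_center_iff.mp hce b) ?_
    · rw [hbxd, ← zpow_natCast x i]
      have : Commute x (d * x ^ ((i : ℤ) - 1)) :=
        Subgroup.mem_center_iff.mp hce x
      rw [this.eq, mul_assoc, ← zpow_add_one, sub_add_cancel]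
    · refine hbs.coprime ?_
      intro hdv
      have hmem : d * x ^ ((i : ℤ) - 1) ∈ (S : Subgroup G) := mul_mem hd.1 (zpow_mem hg.mem _)
      obtain ⟨j, hj⟩ := isQ_of_mem S.2 hmem
      rw [hj] at hdv
      exact hsq ((Nat.prime_dvd_prime_iff_eq hsF.out hqF.out).mp (hsF.out.dvd_of_dvd_pow hdv))
  have hpow : (i : ZMod q) ^ s ^ k = 1 := by
    have := (ZMod.intCast_zmod_eq_zero_iff_dvd _ _).mpr h1
    push_cast at this
    exact sub_eq_zero.mp this
  have hi0 : (i : ZMod q) ≠ 0 := fun h => by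
    rw [h, zero_pow (pow_ne_zero _ hsF.out.ne_zero)] at hpow
    exact zero_ne_one hpow
  obtain ⟨j, hj, ho⟩ := (Nat.dvd_prime_pow hsF.out).mp (orderOf_dvd_of_pow_eq_one hpow)
  have hj0 : j ≠ 0 := fun h => hi1 (orderOf_eq_one_iff.mp (by rw [ho, h, pow_zero]))
  have := ZMod.orderOf_dvd_card_sub_one hi0
  rw [ho] at this
  exact (dvd_pow_self s hj0).trans this

end CfsgLib.ClassThree
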