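import Cfsg.Agent.Lib.ClassThree.Step

/-!
The shape of a Sylow subgroup with a good element.
-/

set_option autoImplicit false
set_option linter.style.haveILetI false
set_option linter.unusedSectionVars false

namespace CfsgLib.ClassThree

open CfsgLib.CentMaxNormal CfsgLib.TwoClassSizes
open scoped commutatorElement

variable {G : Type*} [Group G] [Finite G] {q : ℕ} [hqF : Fact q.Prime]
  {m n : ℕ} {S : Sylow q G} {x : G} (H : Hyp G m n) (hqm : q ∣ m) (hg : Good q (S : Subgroup G) x)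

include H hqm hg

theorem Good.exists_outside : ∃ u ∈ (S : Subgroup G), u ∉ cen x := by
  by_contra hcon
  push Not at hcon
  have h1 := isQ_le_factorization S.2 (C := cen x) hcon
  rw [S.card_eq_multiplicity] at h1
  have h2 := (Nat.pow_le_pow_iff_right hqF.out.one_lt).mp h1
  have h3 := H.fact_cen hqm hg.nc
  have h4 := H.factorization_pos hqm
  omega

theorem Good.card_S :
    Nat.card (S : Subgroup G) = q * Nat.card ↥((S : Subgroup G) ⊓ cen x) := by
  obtain ⟨u, hu, hu'⟩ := hg.exists_outside H hqm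
  exact le_antisymm (hg.card_le H hqm) (mul_card_le inf_le_left S.2 hu fun h => hu' h.2)

theorem Good.fact_one : m.factorization q = 1 := by
  have h1 := hg.card_S H hqm
  rw [hg.card_T H hqm, S.card_eq_multiplicity, ← pow_succ'] at h1
  have h2 := Nat.pow_right_injective hqF.out.two_le h1
  have h3 := H.fact_cen hqm hg.nc
  omega

theorem Good.card_T_le : Nat.card ↥((S : Subgroup G) ⊓ cen x) ≤
    q * Nat.card ↥((S : Subgroup G) ⊓ Subgroup.center G) := by
  classical
  by_contra hbig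
  push Not at hbig
  set T := (S : Subgroup G) ⊓ cen x with hTdef
  have hkey : ∀ Y ≤ (S : Subgroup G), Nat.card Y = Nat.card T →
      ∀ t ∈ Y, t ∉ Subgroup.center G → (∀ y ∈ Y, Commute t y) → Y = T := by
    intro Y hYS hYc t htY htnc htc
    have hn : Y ≤ Subgroup.normalizer (T : Set G) := fun u hu =>
      mem_normalizer_of_forall fun w hw => Subgroup.mem_inf.mpr ⟨mul_mem (mul_mem (hYS hu) hw.1) (inv_mem (hYS hu)),
        hg.conj_mem (hYS hu) hw.2⟩
    have h1 := Coprime.card_sup_mul_card_inf hn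
    have h2 : Nat.card ↥(T ⊔ Y) ≤ Nat.card (S : Subgroup G) :=
      Nat.le_of_dvd Nat.card_pos (Subgroup.card_dvd_of_le (sup_le inf_le_left hYS))
    obtain ⟨s, hs, hsnc⟩ : ∃ s ∈ T ⊓ Y, s ∉ Subgroup.center G := by
      by_contra hcon
      push Not at hcon
      have h3 : Nat.card ↥(T ⊓ Y) ≤ Nat.card ↥((S : Subgroup G) ⊓ Subgroup.center G) :=
        Nat.le_of_dvd Nat.card_pos (Subgroup.card_dvd_of_le fun s hs => ⟨hYS hs.2, hcon s hs⟩)
      have h4 : Nat.card T * Nat.card T ≤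
          q * Nat.card T * Nat.card ↥((S : Subgroup G) ⊓ Subgroup.center G) := by
        rw [← hg.card_S H hqm]
        calc Nat.card T * Nat.card T = Nat.card ↥(T ⊔ Y) * Nat.card ↥(T ⊓ Y) := by rw [h1, hYc]
          _ ≤ _ := Nat.mul_le_mul h2 h3
      have h5 : 0 < Nat.card T := Nat.card_pos
      nlinarith
    have htT : t ∈ cen x := by
      by_contra htx
      exact hsnc (hg.cent H hqm (hYS htY) htx hs.1 (htc s hs.2))
    refine Subgroup.eq_of_le_of_card_ge (fun y hy => ?_) hYc.ge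
    refine ⟨hYS hy, ?_⟩
    by_contra hyx
    exact htnc (hg.cent H hqm (hYS hy) hyx ⟨hYS htY, htT⟩ (htc y hy).symm)
  have hconj : ∀ a : G, IsQ q a → a ∉ Subgroup.center G → ∀ b ∈ cen a,
      (orderOf b).Coprime q → ∃ g : G, g * a * g⁻¹ ∈ T ∧ g * b * g⁻¹ ∈ cen x := by
    intro a ha hanc b hb hb'
    obtain ⟨sp⟩ := exists_split H hqm hanc ha
    obtain ⟨Q, hQ⟩ := sp.hT.exists_le_sylow
    obtain ⟨g, hgQ⟩ := MulAction.exists_smul_eq G Q S
    refine ⟨g, ?_⟩
    set Y := sp.T.map (MulAut.conj g).toMonoidHom with hY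
    have hYS : Y ≤ (S : Subgroup G) := by
      rintro _ ⟨w, hw, rfl⟩
      rw [← hgQ]
      exact Subgroup.smul_mem_pointwise_smul w (MulAut.conj g) (Q : Subgroup G) (hQ hw)
    have haT : a ∈ sp.T := sp.memT a (self_mem_cen a) ha
    have hYT : Y = T := by
      refine hkey Y hYS ?_ (g * a * g⁻¹) ⟨a, haT, rfl⟩ (fun h => hanc (mem_center_conj_iff.mp h)) ?_
      · rw [hY, Subgroup.card_map_of_injective (MulEquiv.injective (MulAut.conj g)), sp.card_T,
          hTdef, hg.card_T H hqm, H.fact_cen_eq hqm hanc hg.nc]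
      · rintro _ ⟨w, hw, rfl⟩
        exact Commute.map (mem_cen.mp (sp.T_le hw) : Commute w a).symm (MulAut.conj g).toMonoidHom
    refine ⟨hYT ▸ ⟨a, haT, rfl⟩, ?_⟩
    have hx : x ∈ Y := hYT ▸ ⟨hg.mem, self_mem_cen x⟩
    obtain ⟨w, hw, rfl⟩ := hx
    exact mem_cen.mpr (Commute.map (sp.comm w hw b (sp.memK b hb hb')).symm
      (MulAut.conj g).toMonoidHom).eq
  have htop : cen x = ⊤ := eq_top_of_conj_cover fun g => by
    obtain ⟨a, b, rfl, hab, ha, hb, -, -⟩ := exists_parts (q := q) g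
    by_cases haz : a ∈ Subgroup.center G
    · by_cases hbz : b ∈ Subgroup.center G
      · exact ⟨1, by simpa using center_le_cen x (mul_mem haz hbz)⟩
      obtain ⟨R⟩ := (inferInstance : Nonempty (Sylow q (cen b)))
      obtain ⟨t, ht, htnc⟩ : ∃ t ∈ (R : Subgroup (cen b)).map (cen b).subtype,
          t ∉ Subgroup.center G := by
        by_contra hcon
        push Not at hcon
        have hle : (R : Subgroup (cen b)).map (cen b).subtype ≤
            (S : Subgroup G) ⊓ Subgroup.center G := fun t ht =>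
          ⟨center_mem_sylow S (hcon t ht) (isQ_of_mem (R.2.map _) ht), hcon t ht⟩
        have h1 := Nat.le_of_dvd Nat.card_pos (Subgroup.card_dvd_of_le hle)
        rw [Subgroup.card_map_of_injective (Subgroup.subtype_injective _), R.card_eq_multiplicity,
          H.fact_cen_eq hqm hbz hg.nc, ← hg.card_T H hqm] at h1
        have h5 : 2 ≤ q := hqF.out.two_le
        nlinarith
      obtain ⟨g, -, h2⟩ := hconj t (isQ_of_mem (R.2.map _) ht) htnc b
        (mem_cen_comm.mp (Subgroup.map_subtype_le _ ht)) hb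
      refine ⟨g⁻¹, ?_⟩
      have h3 : g * a * g⁻¹ ∈ cen x :=
        center_le_cen x (mem_center_conj_iff.mpr haz)
      have := mul_mem h3 h2
      simpa [mul_assoc] using this
    · obtain ⟨g, h1, h2⟩ := hconj a ha haz b (mem_cen.mpr hab.symm.eq) hb
      refine ⟨g⁻¹, ?_⟩
      have := mul_mem h1.2 h2
      simpa [mul_assoc] using this
  exact hg.nc (cen_eq_top_iff.mp htop)

theorem Good.card_T_eq : Nat.card ↥((S : Subgroup G) ⊓ cen x) =
    q * Nat.card ↥((S : Subgroup G) ⊓ Subgroup.center G) :=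
  le_antisymm (hg.card_T_le H hqm) (mul_card_le hg.inf_center_le (S.2.to_le inf_le_left)
    (⟨hg.mem, self_mem_cen x⟩ : x ∈ (S : Subgroup G) ⊓ cen x) fun h => hg.nc h.2)

theorem Good.card_S_eq : Nat.card (S : Subgroup G) =
    q * (q * Nat.card ↥((S : Subgroup G) ⊓ Subgroup.center G)) := by
  rw [hg.card_S H hqm, hg.card_T_eq H hqm]

/-- Any subgroup of `S ⊓ cen x` containing the centre and a noncentral element is everything. -/
theorem Good.T_eq_sup {t : G} (ht : t ∈ (S : Subgroup G) ⊓ cen x)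
    (htnc : t ∉ Subgroup.center G) :
    (S : Subgroup G) ⊓ cen x = ((S : Subgroup G) ⊓ Subgroup.center G) ⊔ Subgroup.zpowers t := by
  refine (Subgroup.eq_of_le_of_card_ge (sup_le hg.inf_center_le (Subgroup.zpowers_le.mpr ht)) ?_).symm
  rw [hg.card_T_eq H hqm]
  exact mul_card_le le_sup_left
    (S.2.to_le (sup_le inf_le_left (Subgroup.zpowers_le.mpr ht.1)))
    (Subgroup.mem_sup_right (Subgroup.mem_zpowers t)) fun h => htnc h.2

theorem Good.exists_form {t : G} (ht : t ∈ (S : Subgroup G) ⊓ cen x) :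
    ∃ c ∈ (S : Subgroup G) ⊓ Subgroup.center G, ∃ i : ℕ, t = c * x ^ i := by
  have h : t ∈ ((S : Subgroup G) ⊓ Subgroup.center G) ⊔ Subgroup.zpowers x := by
    rw [← hg.T_eq_sup H hqm ⟨hg.mem, self_mem_cen x⟩ hg.nc]; exact ht
  have hn : Subgroup.zpowers x ≤
      Subgroup.normalizer (((S : Subgroup G) ⊓ Subgroup.center G : Subgroup G) : Set G) :=
    fun u _ => mem_normalizer_of_forall fun w hw => by
      rw [Subgroup.mem_center_iff.mp hw.2 u, mul_inv_cancel_right]; exact hw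
  rw [← SetLike.mem_coe, Subgroup.coe_mul_of_right_le_normalizer_left _ _ hn, Set.mem_mul] at h
  obtain ⟨c, hc, w, hw, rfl⟩ := h
  obtain ⟨i, rfl⟩ := ((isOfFinOrder_of_finite x).mem_powers_iff_mem_zpowers).mpr hw
  exact ⟨c, hc, i, rfl⟩

theorem Good.T_comm {t t' : G} (ht : t ∈ (S : Subgroup G) ⊓ cen x)
    (ht' : t' ∈ (S : Subgroup G) ⊓ cen x) : Commute t t' := by
  obtain ⟨c, hc, i, rfl⟩ := hg.exists_form H hqm ht
  obtain ⟨d, hd, j, rfl⟩ := hg.exists_form H hqm ht'
  have h1 : Commute c (d * x ^ j) := (Subgroup.mem_center_iff.mp hc.2 _).symm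
  have h2 : Commute (x ^ i) d := Subgroup.mem_center_iff.mp hd.2 _
  exact h1.mul_left (h2.mul_right ((Commute.refl x).pow_pow i j))

theorem Good.pow_mem_center {s : G} (hs : s ∈ (S : Subgroup G)) : s ^ q ∈ Subgroup.center G := by
  by_cases hsx : s ∈ cen x
  · by_cases hsz : s ∈ Subgroup.center G
    · exact pow_mem hsz q
    obtain ⟨c, hc, i, h⟩ := hg.exists_form H hqm ⟨hs, hsx⟩
    rw [h, (Commute.mul_pow (Subgroup.mem_center_iff.mp hc.2 (x ^ i)).symm), ← pow_mul, mul_comm i,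
      pow_mul]
    exact mul_mem (pow_mem hc.2 q) (pow_mem hg.pow i)
  · obtain ⟨c, hc, h1⟩ := hg.tw s hs
    exact hg.cent H hqm hs hsx ⟨pow_mem hs q, pow_mem_cen_of_central_mod hc h1 hg.pow⟩
      ((Commute.refl s).pow_right q)

theorem Good.sup_outside {u : G} (hu : u ∈ (S : Subgroup G)) (hu' : u ∉ cen x) :
    ((S : Subgroup G) ⊓ cen x) ⊔ Subgroup.zpowers u = (S : Subgroup G) := by
  refine Subgroup.eq_of_le_of_card_ge (sup_le inf_le_left (Subgroup.zpowers_le.mpr hu)) ?_
  rw [hg.card_S H hqm]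
  exact mul_card_le le_sup_left (S.2.to_le (sup_le inf_le_left (Subgroup.zpowers_le.mpr hu)))
    (Subgroup.mem_sup_right (Subgroup.mem_zpowers u)) fun h => hu' h.2

theorem Good.exists_word {a : G} (ha : a ∈ (S : Subgroup G)) (ha' : a ∉ cen x) {s : G}
    (hs : s ∈ (S : Subgroup G)) :
    ∃ d ∈ (S : Subgroup G) ⊓ Subgroup.center G, ∃ i j : ℤ, s = d * x ^ i * a ^ j := by
  rw [← hg.sup_outside H hqm ha ha'] at hs
  have hn : Subgroup.zpowers a ≤
      Subgroup.normalizer (((S : Subgroup G) ⊓ cen x : Subgroup G) : Set G) :=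
    Subgroup.zpowers_le.mpr (mem_normalizer_of_forall fun w hw =>
      Subgroup.mem_inf.mpr ⟨mul_mem (mul_mem ha hw.1) (inv_mem ha), hg.conj_mem ha hw.2⟩)
  rw [← SetLike.mem_coe, Subgroup.coe_mul_of_right_le_normalizer_left _ _ hn, Set.mem_mul] at hs
  obtain ⟨t, ht, w, hw, rfl⟩ := hs
  obtain ⟨d, hd, i, rfl⟩ := hg.exists_form H hqm ht
  obtain ⟨j, rfl⟩ := Subgroup.mem_zpowers_iff.mp hw
  exact ⟨d, hd, i, j, by rw [zpow_natCast]⟩

/-- Modulo a normal subgroup containing one commutator, `S` is abelian. -/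
theorem Good.commute_mod {a : G} (ha : a ∈ (S : Subgroup G)) (ha' : a ∉ cen x) {Q : Type*}
    [Group Q] (π : (S : Subgroup G) →* Q)
    (hax : Commute (π ⟨a, ha⟩) (π ⟨x, hg.mem⟩)) (u v : (S : Subgroup G)) :
    Commute (π u) (π v) := by
  have hw : ∀ s : (S : Subgroup G), ∃ d : (S : Subgroup G), (∀ w, Commute d w) ∧
      ∃ i j : ℤ, s = d * (⟨x, hg.mem⟩ : (S : Subgroup G)) ^ i * ⟨a, ha⟩ ^ j := fun s => by
    obtain ⟨d, hd, i, j, h⟩ := hg.exists_word H hqm ha ha' s.2
    exact ⟨⟨d, hd.1⟩, fun w => Subtype.ext (Subgroup.mem_center_iff.mp hd.2 w).symm, i, j,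
      Subtype.ext (by simpa using h)⟩
  obtain ⟨d, hd, i, j, rfl⟩ := hw u
  obtain ⟨e, he, k, l, rfl⟩ := hw v
  simp only [map_mul, map_zpow]
  have hX : Commute (π ⟨x, hg.mem⟩ ^ i) (π e * π ⟨x, hg.mem⟩ ^ k * π ⟨a, ha⟩ ^ l) :=
    (((((he ⟨x, hg.mem⟩).map π).symm.zpow_left i)).mul_right
      ((Commute.refl _).zpow_zpow i k)).mul_right (hax.symm.zpow_zpow i l)
  have hA : Commute (π ⟨a, ha⟩ ^ j) (π e * π ⟨x, hg.mem⟩ ^ k * π ⟨a, ha⟩ ^ l) :=
    (((((he ⟨a, ha⟩).map π).symm.zpow_left j)).mul_right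
      (hax.zpow_zpow j k)).mul_right ((Commute.refl _).zpow_zpow j l)
  have hD : Commute (π d) (π e * π ⟨x, hg.mem⟩ ^ k * π ⟨a, ha⟩ ^ l) :=
    (((hd e).map π).mul_right (((hd ⟨x, hg.mem⟩).map π).zpow_right k)).mul_right
      (((hd ⟨a, ha⟩).map π).zpow_right l)
  exact (hD.mul_left hX).mul_left hA

/-- Commutators in `S` are central. -/
theorem Good.comm_central {u v : G} (hu : u ∈ (S : Subgroup G)) (hv : v ∈ (S : Subgroup G)) :
    u * v * u⁻¹ * v⁻¹ ∈ Subgroup.center G := by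
  obtain ⟨a, ha, ha'⟩ := hg.exists_outside H hqm
  obtain ⟨c, hc, h1⟩ := hg.tw a ha
  set π := (QuotientGroup.mk' (Subgroup.center G)).comp (S : Subgroup G).subtype with hπ
  have h := hg.commute_mod H hqm ha ha' π (by
    show QuotientGroup.mk' _ a * QuotientGroup.mk' _ x = QuotientGroup.mk' _ x * QuotientGroup.mk' _ a
    have h2 := congrArg (QuotientGroup.mk' (Subgroup.center G)) h1
    rw [map_mul, map_mul, map_inv, map_mul, QuotientGroup.mk'_apply (N := Subgroup.center G) c,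
      (QuotientGroup.eq_one_iff c).mpr hc, one_mul, mul_inv_eq_iff_eq_mul] at h2
    exact h2) ⟨u, hu⟩ ⟨v, hv⟩
  rw [← QuotientGroup.eq_one_iff (N := Subgroup.center G), ← QuotientGroup.mk'_apply]
  have h' : QuotientGroup.mk' (Subgroup.center G) u * QuotientGroup.mk' _ v =
      QuotientGroup.mk' _ v * QuotientGroup.mk' _ u := h
  rw [map_mul, map_mul, map_mul, map_inv, map_inv, h', mul_inv_cancel_right, mul_inv_cancel]

/-- Every noncentral element of `S` is good as far as the second centre goes. -/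
theorem Good.twist {w : G} (hw : w ∈ (S : Subgroup G)) : Twist (S : Subgroup G) w := fun u hu =>
  ⟨u * w * u⁻¹ * w⁻¹, hg.comm_central H hqm hu hw, by group⟩

theorem Good.card_inf_cen {w : G} (hw : w ∈ (S : Subgroup G)) (hwnc : w ∉ Subgroup.center G) :
    Nat.card ↥((S : Subgroup G) ⊓ cen w) =
      q * Nat.card ↥((S : Subgroup G) ⊓ Subgroup.center G) := by
  refine le_antisymm ?_ (mul_card_le (inf_le_inf_left _ (center_le_cen w))
    (S.2.to_le inf_le_left) (⟨hw, self_mem_cen w⟩ : w ∈ (S : Subgroup G) ⊓ cen w)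
    fun h => hwnc h.2)
  rw [← hg.card_T_eq H hqm, hg.card_T H hqm, ← H.fact_cen_eq hqm hwnc hg.nc]
  exact isQ_le_factorization (S.2.to_le inf_le_left) inf_le_right

theorem Good.card_commutator : Nat.card (commutator ↥(S : Subgroup G)) = q := by
  obtain ⟨a, ha, ha'⟩ := hg.exists_outside H hqm
  obtain ⟨c, hc, h1⟩ := hg.tw a ha
  have hc1 : c ≠ 1 := fun h => ha' (mem_cen.mpr (by
    rw [h, one_mul, mul_inv_eq_iff_eq_mul] at h1; exact h1))
  have hxc : a ^ q ∈ cen x := pow_mem_cen_of_central_mod hc h1 hg.pow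
  have hcq : c ^ q = 1 := by
    have h2 : a * x ^ q * a⁻¹ = (c * x) ^ q := by rw [← h1, conj_pow]
    rw [Commute.mul_pow (Subgroup.mem_center_iff.mp hc x).symm,
      Subgroup.mem_center_iff.mp hg.pow a, mul_inv_cancel_right] at h2
    exact right_eq_mul.mp h2
  have hord : orderOf c = q := orderOf_eq_prime hcq hc1
  have hcS : c ∈ (S : Subgroup G) := by
    have : c = a * x * a⁻¹ * x⁻¹ := by rw [h1]; group
    rw [this]
    exact mul_mem (mul_mem (mul_mem ha hg.mem) (inv_mem ha)) (inv_mem hg.mem)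
  set C0 := Subgroup.zpowers (⟨c, hcS⟩ : (S : Subgroup G)) with hC0
  haveI hC0n : C0.Normal := ⟨fun w hw g => by
    obtain ⟨i, rfl⟩ := Subgroup.mem_zpowers_iff.mp hw
    have h2 : (g * (⟨c, hcS⟩ : (S : Subgroup G)) ^ i * g⁻¹) = (⟨c, hcS⟩ : (S : Subgroup G)) ^ i := by
      refine Subtype.ext ?_
      simp only [Subgroup.coe_mul, InvMemClass.coe_inv, SubgroupClass.coe_zpow]
      rw [Subgroup.mem_center_iff.mp (zpow_mem hc i) (g : G), mul_inv_cancel_right]
    rw [h2]; exact zpow_mem (Subgroup.mem_zpowers _) i⟩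
  have hle : commutator ↥(S : Subgroup G) ≤ C0 := by
    rw [commutator_def, Subgroup.commutator_le]
    intro u _ v _
    have h := hg.commute_mod H hqm ha ha' (QuotientGroup.mk' C0) (by
      show _ * _ = _ * _
      rw [← map_mul, ← map_mul, eq_comm, QuotientGroup.mk'_apply, QuotientGroup.mk'_apply,
        QuotientGroup.eq]
      refine Subgroup.mem_zpowers_iff.mpr ⟨1, Subtype.ext ?_⟩
      simp only [zpow_one, Subgroup.coe_mul, InvMemClass.coe_inv]
      have hcx := Subgroup.mem_center_iff.mp hc ((x * a)⁻¹)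
      have h1' : a * x = c * (x * a) := by
        rw [← mul_assoc, ← h1]; group
      rw [h1', ← mul_assoc, hcx, mul_assoc, inv_mul_cancel, mul_one]) u v
    rw [← QuotientGroup.eq_one_iff (N := C0), ← QuotientGroup.mk'_apply, commutatorElement_def,
      map_mul, map_mul, map_mul, map_inv, map_inv, h.eq, mul_inv_cancel_right, mul_inv_cancel]
  refine le_antisymm ?_ ?_
  · refine le_trans (Nat.le_of_dvd Nat.card_pos (Subgroup.card_dvd_of_le hle)) ?_
    rw [hC0, Nat.card_zpowers, Subgroup.orderOf_mk, hord]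
  · have hmem : (⟨c, hcS⟩ : (S : Subgroup G)) ∈ commutator ↥(S : Subgroup G) := by
      have e : (⟨c, hcS⟩ : (S : Subgroup G)) = ⁅(⟨a, ha⟩ : (S : Subgroup G)), ⟨x, hg.mem⟩⁆ := by
        refine Subtype.ext ?_
        rw [commutatorElement_def]
        simp only [Subgroup.coe_mul, InvMemClass.coe_inv]
        rw [h1]; group
      rw [e, commutator_def]
      exact Subgroup.commutator_mem_commutator (Subgroup.mem_top _) (Subgroup.mem_top _)
    refine le_trans ?_ (Nat.le_of_dvd Nat.card_pos (Subgroup.card_dvd_of_le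
      (Subgroup.zpowers_le.mpr hmem)))
    rw [Nat.card_zpowers, Subgroup.orderOf_mk, hord]

end CfsgLib.ClassThree
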