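import Cfsg.Agent.Lib.ClassThree.Main

/-!
`p < n`, the elements of class size at most `p` form a subgroup, which contains a noncentral
`p`-element.
-/

set_option autoImplicit false
set_option linter.style.haveILetI false
set_option linter.unusedSectionVars false

namespace CfsgLib.ClassThree

open CfsgLib.CentMaxNormal CfsgLib.TwoClassSizes
open scoped Pointwise

variable {G : Type*} [Group G] [Finite G] {p : ℕ} [hpF : Fact p.Prime] {n : ℕ}

theorem index_cen_conj (g x : G) : (cen (g * x * g⁻¹)).index = (cen x).index := by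
  rw [← map_cen]
  exact Subgroup.index_map_of_bijective (MulEquiv.bijective (MulAut.conj g)) _

theorem Split.card_eq {q : ℕ} [Fact q.Prime] {C : Subgroup G} (sp : Split q C) :
    Nat.card C = Nat.card sp.T * Nat.card sp.K := by
  rw [← Nat.card_prod]
  refine (Nat.card_eq_of_bijective
    (fun a : sp.T × sp.K => (⟨(a.1 : G) * a.2, mul_mem (sp.T_le a.1.2) (sp.K_le a.2.2)⟩ : C)) ⟨?_, ?_⟩).symm
  · rintro ⟨t, k⟩ ⟨t', k'⟩ h
    have h1 : (t : G) * k = t' * k' := congrArg Subtype.val h
    have h2 : (t' : G)⁻¹ * t = k' * (k : G)⁻¹ := by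
      rw [eq_mul_inv_iff_mul_eq, mul_assoc, h1, inv_mul_cancel_left]
    obtain ⟨i, hi⟩ := isQ_of_mem sp.hT (mul_mem (inv_mem t'.2) t.2)
    have h3 : (orderOf ((t' : G)⁻¹ * t)).Coprime q := by
      rw [h2]
      exact Transfer.coprime_orderOf_of_mem sp.K_cop (mul_mem k'.2 (inv_mem k.2))
    have h4 : orderOf ((t' : G)⁻¹ * t) = 1 := by
      rcases Nat.eq_zero_or_pos i with hi0 | hi0
      · rw [hi, hi0, pow_zero]
      · rw [hi] at h3
        exact absurd ((Fact.out : q.Prime).coprime_iff_not_dvd.mp h3.symm (dvd_pow_self q hi0.ne'))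
          (fun h => h)
    rw [orderOf_eq_one_iff] at h4
    have ht : (t : G) = t' := (inv_mul_eq_one.mp h4).symm
    rw [ht] at h1
    exact Prod.ext (Subtype.ext ht) (Subtype.ext (mul_left_cancel h1))
  · rintro ⟨g, hg⟩
    obtain ⟨t, ht, k, hk, rfl⟩ := sp.prod g hg
    exact ⟨(⟨t, ht⟩, ⟨k, hk⟩), rfl⟩

/-- The index of a centralizer inside a normal subgroup divides the index. -/
theorem relIndex_dvd_of_normal {M : Subgroup G} [M.Normal] (C : Subgroup G) :
    C.relIndex M ∣ C.index := by
  have h1 : (C.relIndex M) * Nat.card ↥(C ⊓ M) = Nat.card M := Coprime.relIndex_mul_card_inf C M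
  have h2 := Coprime.card_sup_mul_card_inf (K := M) (S := C)
    (le_top.trans_eq (Subgroup.normalizer_eq_top_iff.mpr ‹M.Normal›).symm)
  have h3 : Nat.card ↥(M ⊔ C) ∣ Nat.card G := Subgroup.card_subgroup_dvd_card _
  rw [← Subgroup.card_mul_index C] at h3
  have h4 : Nat.card ↥(M ⊔ C) = C.relIndex M * Nat.card C := by
    apply Nat.eq_of_mul_eq_mul_right (Nat.card_pos : 0 < Nat.card ↥(M ⊓ C))
    rw [h2, ← h1, inf_comm]
    ring
  rw [h4, mul_comm (C.relIndex M)] at h3
  exact Nat.dvd_of_mul_dvd_mul_left Nat.card_pos h3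

theorem Hyp.idx' (H : Hyp G p n) {g : G} (hg : g ∉ Subgroup.center G) :
    (cen g).index = p ∨ (cen g).index = p * n := H.idx g hg

theorem index_dvd_p_iff (H : Hyp G p n) {g : G} :
    (cen g).index ∣ p ↔ g ∈ Subgroup.center G ∨ (cen g).index = p := by
  constructor
  · intro h
    rcases (Nat.dvd_prime hpF.out).mp h with h1 | h1
    · exact Or.inl (index_cen_eq_one.mp h1)
    · exact Or.inr h1
  · rintro (h | h)
    · rw [index_cen_eq_one.mpr h]; exact one_dvd _
    · rw [h]

theorem Hyp.index_eq_pn (H : Hyp G p n) {g : G} (hg : ¬ (cen g).index ∣ p) :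
    (cen g).index = p * n := by
  have hgnc : g ∉ Subgroup.center G := fun h => hg ((index_dvd_p_iff H).mpr (Or.inl h))
  exact (H.idx g hgnc).resolve_left fun h => hg ((index_dvd_p_iff H).mpr (Or.inr h))

section

variable {S : Sylow p G} {x : G} (H : Hyp G p n) (hg : Good p (S : Subgroup G) x)
include H hg

theorem Good.mem_of_cen {w v : G} (hw : w ∈ (S : Subgroup G)) (hwnc : w ∉ Subgroup.center G)
    (hv : v ∈ cen w) (hvp : IsQ p v) : v ∈ (S : Subgroup G) := by
  obtain ⟨sp⟩ := exists_split H dvd_rfl hwnc (isQ_of_mem S.2 hw)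
  have h : (S : Subgroup G) ⊓ cen w = sp.T := by
    refine Subgroup.eq_of_le_of_card_ge (fun u hu => sp.memT u hu.2 (isQ_of_mem S.2 hu.1)) ?_
    rw [sp.card_T, hg.card_inf_cen H dvd_rfl hw hwnc, ← hg.card_T_eq H dvd_rfl, hg.card_T H dvd_rfl,
      H.fact_cen_eq dvd_rfl hwnc hg.nc]
  exact (h.symm.le (sp.memT v hv hvp)).1

theorem Good.lt_n : p < n := by
  classical
  rcases lt_trichotomy p n with h | h | h
  · exact h
  · exact absurd (h ▸ H.cop) (fun hc => by
      rw [Nat.coprime_self] at hc; have := hpF.out.two_le; omega)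
  exfalso
  have hall : ∀ u : G, IsQ p u → u ∈ (S : Subgroup G) := by
    intro u hu
    by_cases hunc : u ∈ Subgroup.center G
    · exact center_mem_sylow S hunc hu
    have hug : IsPGroup p (Subgroup.zpowers u) := by
      obtain ⟨i, hi⟩ := hu
      exact IsPGroup.of_card (n := i) (by rw [Nat.card_zpowers, hi])
    obtain ⟨Q, hQ⟩ := hug.exists_le_sylow
    obtain ⟨g, hgQ⟩ := MulAction.exists_smul_eq G Q S
    set w := g * u * g⁻¹ with hw
    have hwS : w ∈ (S : Subgroup G) := by
      rw [← hgQ]
      exact Subgroup.smul_mem_pointwise_smul u (MulAut.conj g) (Q : Subgroup G)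
        (hQ (Subgroup.mem_zpowers u))
    have hwnc : w ∉ Subgroup.center G := fun h => hunc (mem_center_conj_iff.mp h)
    set T := (S : Subgroup G) ⊓ cen w with hT
    set N := Subgroup.normalizer (T : Set G) with hN
    have hnormS : ∀ s ∈ (S : Subgroup G), s ∈ Subgroup.normalizer ((cen w : Subgroup G) : Set G) :=
      fun s hs => by
        obtain ⟨c, hc, h1⟩ := hg.twist H dvd_rfl hwS s hs
        exact mem_normalizer_of_central_mod hc h1
    have hSN : (S : Subgroup G) ≤ N := fun s hs => mem_normalizer_of_forall fun t ht =>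
      Subgroup.mem_inf.mpr ⟨mul_mem (mul_mem hs ht.1) (inv_mem hs),
        (Subgroup.mem_normalizer_iff.mp (hnormS s hs) t).mp ht.2⟩
    have hCN : cen w ≤ N := fun c hc => mem_normalizer_of_forall fun t ht =>
      Subgroup.mem_inf.mpr ⟨hg.mem_of_cen H hwS hwnc (mul_mem (mul_mem hc ht.2) (inv_mem hc))
        ((isQ_of_mem S.2 ht.1).conj c), mul_mem (mul_mem hc ht.2) (inv_mem hc)⟩
    have hidx : N.index ∣ n := by
      have h1 : N.index ∣ (cen w).index := Subgroup.index_dvd_of_le hCN
      have h2 : N.index ∣ (S : Subgroup G).index := Subgroup.index_dvd_of_le hSN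
      have h3 : N.index.Coprime p :=
        ((hpF.out.coprime_iff_not_dvd.mpr S.not_dvd_index).coprime_dvd_right h2).symm
      rcases H.idx w hwnc with h4 | h4
      · rw [h4] at h1
        rw [Nat.eq_one_of_dvd_coprimes h3.symm h1 dvd_rfl]
        exact one_dvd _
      · rw [h4] at h1
        exact h3.dvd_of_dvd_mul_left h1
    have hfix : ∀ (a : G), ∀ s ∈ (S : Subgroup G), a⁻¹ * s * a ∈ N := by
      intro a s hs
      have hsq : IsQ p s := isQ_of_mem S.2 hs
      haveI := Fintype.ofFinite (G ⧸ N)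
      set σ : Equiv.Perm (G ⧸ N) := MulAction.toPerm s with hσ
      have hle : Fintype.card (G ⧸ N) < p := by
        rw [← Nat.card_eq_fintype_card, ← Subgroup.index_eq_card]
        exact lt_of_le_of_lt (Nat.le_of_dvd (by have := H.hn; omega) hidx) h
      obtain ⟨k, hk⟩ := isQ_iff.mp hsq
      have hd1 : orderOf σ ∣ p ^ k := orderOf_dvd_of_pow_eq_one (by
        rw [hσ, ← MulAction.toPermHom_apply, ← map_pow, hk, map_one])
      have hd2 : orderOf σ ∣ (Fintype.card (G ⧸ N)).factorial := by
        rw [← Fintype.card_perm]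
        exact orderOf_dvd_card
      have hcop : (p ^ k).Coprime (Fintype.card (G ⧸ N)).factorial :=
        ((hpF.out.coprime_iff_not_dvd.mpr fun hd => by
          have := hpF.out.dvd_factorial.mp hd; omega).pow_left k)
      have h1 : orderOf σ = 1 := Nat.eq_one_of_dvd_coprimes hcop hd1 hd2
      have h2 : σ (a : G ⧸ N) = (a : G ⧸ N) := by
        rw [orderOf_eq_one_iff.mp h1]; rfl
      have h3 : ((s * a : G) : G ⧸ N) = (a : G ⧸ N) := h2
      have h4 := QuotientGroup.eq.mp h3.symm
      simpa [mul_assoc] using h4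
    -- the Sylow subgroups of `N` contain `T`
    have hTle : ∀ t ∈ T, ∀ a : G, a * t * a⁻¹ ∈ (S : Subgroup G) := by
      intro t ht a
      set S' := (S : Subgroup G).map (MulAut.conj a⁻¹).toMonoidHom with hS'
      have hS'N : S' ≤ N := by
        rintro _ ⟨s, hs, rfl⟩
        have := hfix a s hs
        simpa [mul_assoc] using this
      have hS'p : IsPGroup p S' := S.2.map _
      have hsup : IsPGroup p ↥(S' ⊔ T) := IsPGroup.to_sup_of_normal_right' hS'p
        (S.2.to_le inf_le_left) hS'N
      have heq : S' ⊔ T = S' := by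
        refine (Subgroup.eq_of_le_of_card_ge le_sup_left ?_).symm
        refine (isQ_le_factorization hsup (C := (⊤ : Subgroup G)) le_top).trans ?_
        rw [Subgroup.card_top, hS', Subgroup.card_map_of_injective (MulEquiv.injective (MulAut.conj a⁻¹)),
          S.card_eq_multiplicity]
      have h1 : t ∈ S' := heq ▸ Subgroup.mem_sup_right ht
      obtain ⟨s, hs, rfl⟩ := h1
      simp only [MulEquiv.coe_toMonoidHom, MulAut.conj_apply, inv_inv]
      convert (show s ∈ (S : Subgroup G) from hs) using 1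
      group
    have := hTle w ⟨hwS, self_mem_cen w⟩ g⁻¹
    simpa [hw, mul_assoc] using this
  obtain ⟨b, hb, hbnc⟩ := H.exists_coprime_noncentral dvd_rfl
  obtain ⟨w, hwb, hwp, hwnc⟩ := H.exists_noncentral_q dvd_rfl hbnc
  have hwS := hall w hwp
  obtain ⟨sp⟩ := exists_split H dvd_rfl hwnc hwp
  have hbK : b ∈ sp.K := sp.memK b (mem_cen_comm.mp hwb) hb
  have hbw : Commute b w := (mem_cen.mp hwb : Commute w b).symm
  have hle : (S : Subgroup G) ≤ cen b := by
    intro g hgS
    obtain ⟨c, hc, hgw⟩ := hg.twist H dvd_rfl hwS g hgS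
    set g' := b * g * b⁻¹ with hg'
    have hg'q : IsQ p g' := (isQ_of_mem S.2 hgS).conj b
    have h2 : g' * w * g'⁻¹ = c * w := by
      calc g' * w * g'⁻¹ = b * g * (b⁻¹ * w * b) * g⁻¹ * b⁻¹ := by rw [hg']; group
        _ = b * (g * w * g⁻¹) * b⁻¹ := by
            rw [show b⁻¹ * w * b = w by rw [mul_assoc, ← hbw.eq, inv_mul_cancel_left]]; group
        _ = c * w := by
            rw [hgw, ← mul_assoc, Subgroup.mem_center_iff.mp hc b, mul_assoc c b w, hbw.eq]; group
    set d := g⁻¹ * g' with hd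
    have hdS : d ∈ (S : Subgroup G) := mul_mem (inv_mem hgS) (hall g' hg'q)
    have hdw : d ∈ cen w := by
      refine mem_cen.mpr (mul_inv_eq_iff_eq_mul.mp ?_)
      calc d * w * d⁻¹ = g⁻¹ * (g' * w * g'⁻¹) * g := by rw [hd]; group
        _ = g⁻¹ * (g * w * g⁻¹) * g := by rw [h2, hgw]
        _ = w := by group
    have hdT : d ∈ sp.T := sp.memT d hdw (isQ_of_mem S.2 hdS)
    have : Commute b g := commute_of_twist (c := d) (by rw [hd, hg']; group)
      (sp.comm d hdT b hbK).symm (by
        obtain ⟨j, hj⟩ := isQ_of_mem S.2 hdS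
        rw [hj]; exact hb.pow_right j)
    exact mem_cen.mpr this.symm.eq
  have h1 := isQ_le_factorization S.2 hle
  rw [S.card_eq_multiplicity] at h1
  have h2 := (Nat.pow_le_pow_iff_right hpF.out.one_lt).mp h1
  have h3 := H.fact_cen dvd_rfl hbnc
  have h4 := H.factorization_pos (q := p) dvd_rfl
  omega

end

/-- The elements with class size dividing `p`. -/
def small (H : Hyp G p n) (hn : p < n) : Subgroup G where
  carrier := {g | (cen g).index ∣ p}
  one_mem' := by
    show (cen (1 : G)).index ∣ p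
    rw [index_cen_eq_one.mpr (one_mem _)]; exact one_dvd _
  inv_mem' := by
    intro a ha
    show (cen a⁻¹).index ∣ p
    have : cen a⁻¹ = cen a :=
      le_antisymm (fun g hg => mem_cen.mpr (by
          have := Commute.inv_right (mem_cen.mp hg : Commute g a⁻¹)
          rwa [inv_inv] at this : Commute g a).eq)
        (fun g hg => mem_cen.mpr (Commute.inv_right (mem_cen.mp hg : Commute g a)).eq)
    rw [this]; exact ha
  mul_mem' := by
    intro a b ha hb
    show (cen (a * b)).index ∣ p
    by_cases haz : a ∈ Subgroup.center G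
    · rw [cen_mul_center haz]; exact hb
    by_contra hab
    have h1 := H.index_eq_pn hab
    have hle : cen a ⊓ cen b ≤ cen (a * b) := fun g hg =>
      mem_cen.mpr (Commute.mul_right (mem_cen.mp hg.1 : Commute g a) (mem_cen.mp hg.2 : Commute g b)).eq
    have h2 : (cen (a * b)).index ∣ (cen a ⊓ cen b).index := Subgroup.index_dvd_of_le hle
    have h3 := Subgroup.relIndex_mul_index (inf_le_left : cen a ⊓ cen b ≤ cen a)
    have h4 := Subgroup.index_inf_le (H := cen a) (K := cen b)
    have ha' : (cen a).index = p := ((index_dvd_p_iff H).mp ha).resolve_left haz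
    have hb' : (cen b).index ≤ p := Nat.le_of_dvd hpF.out.pos hb
    rw [h1, ← h3, ha', mul_comm _ p] at h2
    have h5 := Nat.dvd_of_mul_dvd_mul_left hpF.out.pos h2
    rw [ha', ← h3, ha', mul_comm _ p] at h4
    have h6 : 0 < (cen a ⊓ cen b).relIndex (cen a) := Nat.pos_of_ne_zero fun h => by
      rw [h, zero_mul] at h3
      exact Subgroup.index_ne_zero_of_finite h3.symm
    have h7 := Nat.le_of_dvd h6 h5
    have h8 := Nat.le_of_mul_le_mul_left h4 hpF.out.pos
    omega

theorem small_normal (H : Hyp G p n) (hn : p < n) : (small H hn).Normal :=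
  ⟨fun a ha g => by
    show (cen (g * a * g⁻¹)).index ∣ p
    rw [index_cen_conj]; exact ha⟩

end CfsgLib.ClassThree
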