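import Cfsg.Agent.Lib.ClassThree.Basic
import Cfsg.Agent.Lib.Coprime.Generation

/-!
A Sylow subgroup with a suitable element of the second centre has a central quotient of order `q²`.
-/

set_option autoImplicit false
set_option linter.style.haveILetI false
set_option linter.unusedSectionVars false

namespace CfsgLib.ClassThree

open CfsgLib.CentMaxNormal CfsgLib.TwoClassSizes

variable {G : Type*} [Group G]

/-- `x` is central modulo the centre for `S`. -/
def Twist (S : Subgroup G) (x : G) : Prop :=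
  ∀ u ∈ S, ∃ c ∈ Subgroup.center G, u * x * u⁻¹ = c * x

/-- The element needed for the main step. -/
structure Good (q : ℕ) (S : Subgroup G) (x : G) : Prop where
  mem : x ∈ S
  nc : x ∉ Subgroup.center G
  pow : x ^ q ∈ Subgroup.center G
  tw : Twist S x
  ext : ∃ k ∈ cen x, (orderOf k).Coprime q ∧ k ∉ Subgroup.center G

variable [Finite G] {q : ℕ} [hqF : Fact q.Prime]

theorem mul_card_le {A B : Subgroup G} (hAB : A ≤ B) (hB : IsPGroup q B) {b : G} (hb : b ∈ B)
    (hb' : b ∉ A) : q * Nat.card A ≤ Nat.card B := by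
  have hA : IsPGroup q A := hB.to_le hAB
  obtain ⟨i, hi⟩ := IsPGroup.iff_card.mp hA
  obtain ⟨j, hj⟩ := IsPGroup.iff_card.mp hB
  have hlt : Nat.card A < Nat.card B := by
    refine lt_of_le_of_ne (Nat.le_of_dvd Nat.card_pos (Subgroup.card_dvd_of_le hAB)) fun h => hb' ?_
    rw [Subgroup.eq_of_le_of_card_ge hAB h.ge]
    exact hb
  rw [hi, hj] at hlt ⊢
  rw [← pow_succ']
  exact Nat.pow_le_pow_right hqF.out.pos ((Nat.pow_lt_pow_iff_right hqF.out.one_lt).mp hlt)

theorem IsQ.pGroup {A : Subgroup G} (h : ∀ a ∈ A, IsQ q a) : IsPGroup q A := fun a => by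
  obtain ⟨k, hk⟩ := isQ_iff.mp (h a a.2)
  exact ⟨k, Subtype.ext hk⟩

theorem eq_of_full {g : G} {T Y : Subgroup G}
    (hcard : Nat.card T = q ^ (Nat.card (cen g)).factorization q) (hY : IsPGroup q Y)
    (hTY : T ≤ Y) (hYg : Y ≤ cen g) : Y = T :=
  (Subgroup.eq_of_le_of_card_ge hTY ((isQ_le_factorization hY hYg).trans_eq hcard.symm)).symm

theorem mem_normalizer_of_forall {T : Subgroup G} {g : G} (h : ∀ t ∈ T, g * t * g⁻¹ ∈ T) :
    g ∈ Subgroup.normalizer (T : Set G) :=
  Subgroup.mem_normalizer_iff.mpr fun t => ⟨h t, fun ht => by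
    classical
    have hbij : Function.Bijective fun a : T => (⟨g * a * g⁻¹, h a a.2⟩ : T) :=
      Finite.injective_iff_bijective.mp fun a b hab =>
        Subtype.ext (mul_left_cancel (mul_right_cancel (congrArg Subtype.val hab)))
    obtain ⟨a, ha⟩ := hbij.2 ⟨g * t * g⁻¹, ht⟩
    have : (a : G) = t := mul_left_cancel (mul_right_cancel (congrArg Subtype.val ha))
    exact this ▸ a.2⟩

variable {m n : ℕ} {S : Sylow q G} {x : G}

section

variable (H : Hyp G m n) (hqm : q ∣ m) (hg : Good q (S : Subgroup G) x)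
include hg

theorem Good.isQ : IsQ q x := isQ_of_mem S.2 hg.mem

theorem Good.mem_normalizer {u : G} (hu : u ∈ (S : Subgroup G)) :
    u ∈ Subgroup.normalizer ((cen x : Subgroup G) : Set G) := by
  obtain ⟨c, hc, h⟩ := hg.tw u hu
  exact mem_normalizer_of_central_mod hc h

theorem Good.conj_mem {u g : G} (hu : u ∈ (S : Subgroup G)) (h : g ∈ cen x) :
    u * g * u⁻¹ ∈ cen x :=
  (Subgroup.mem_normalizer_iff.mp (hg.mem_normalizer hu) g).mp h

theorem Good.inf_center_le : (S : Subgroup G) ⊓ Subgroup.center G ≤ (S : Subgroup G) ⊓ cen x :=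
  inf_le_inf_left _ (center_le_cen x)

include H hqm

theorem Good.split_T (sp : Split q (cen x)) : sp.T = (S : Subgroup G) ⊓ cen x := by
  have hn : (S : Subgroup G) ≤ Subgroup.normalizer (sp.T : Set G) := fun u hu =>
    mem_normalizer_of_forall fun t ht =>
      sp.memT _ (hg.conj_mem hu (sp.T_le ht)) ((isQ_of_mem sp.hT ht).conj u)
  have h2 := S.3 (IsPGroup.to_sup_of_normal_right' S.2 sp.hT hn) le_sup_left
  have hTS : sp.T ≤ (S : Subgroup G) := by rw [← h2]; exact le_sup_right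
  exact le_antisymm (le_inf hTS sp.T_le) fun y hy => sp.memT y hy.2 (isQ_of_mem S.2 hy.1)

theorem Good.card_T :
    Nat.card ↥((S : Subgroup G) ⊓ cen x) = q ^ (Nat.card (cen x)).factorization q := by
  obtain ⟨sp⟩ := exists_split H hqm hg.nc hg.isQ
  rw [← hg.split_T H hqm sp, sp.card_T]

theorem Good.comm_K {t k : G} (ht : t ∈ (S : Subgroup G) ⊓ cen x) (hk : k ∈ cen x)
    (hk' : (orderOf k).Coprime q) : Commute t k := by
  obtain ⟨sp⟩ := exists_split H hqm hg.nc hg.isQ
  exact sp.comm t (hg.split_T H hqm sp ▸ ht) k (sp.memK k hk hk')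

/-- A noncentral element of the complement has centralizer meeting `S` in `S ⊓ cen x`. -/
theorem Good.mem_of_commute {u k : G} (hu : u ∈ (S : Subgroup G)) (hk : k ∈ cen x)
    (hk' : (orderOf k).Coprime q) (hknc : k ∉ Subgroup.center G) (hc : Commute u k) :
    u ∈ cen x := by
  have h := eq_of_full (g := k) (T := (S : Subgroup G) ⊓ cen x) (Y := (S : Subgroup G) ⊓ cen k)
    (by rw [hg.card_T H hqm, H.fact_cen_eq hqm hknc hg.nc]) (S.2.to_le inf_le_left)
    (fun t ht => ⟨ht.1, mem_cen.mpr (hg.comm_K H hqm ht hk hk').eq⟩) inf_le_right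
  exact (h.le ⟨hu, mem_cen.mpr hc.eq⟩ : u ∈ _ ⊓ cen x).2

/-- Elements outside fix only central elements inside. -/
theorem Good.cent {u t : G} (hu : u ∈ (S : Subgroup G)) (hu' : u ∉ cen x)
    (ht : t ∈ (S : Subgroup G) ⊓ cen x) (hc : Commute u t) : t ∈ Subgroup.center G := by
  by_contra htnc
  obtain ⟨k, hk, hk', hknc⟩ := hg.ext
  obtain ⟨sp⟩ := exists_split H hqm htnc (isQ_of_mem S.2 ht.1)
  have h1 : u ∈ sp.T := sp.memT u (mem_cen.mpr hc.eq) (isQ_of_mem S.2 hu)
  have h2 : k ∈ sp.K := sp.memK k (mem_cen.mpr (hg.comm_K H hqm ht hk hk').symm.eq) hk'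
  exact hu' (hg.mem_of_commute H hqm hu hk hk' hknc (sp.comm u h1 k h2))

/-- `S` is generated by `S ⊓ cen x` and one element. -/
theorem Good.card_le : Nat.card (S : Subgroup G) ≤ q * Nat.card ↥((S : Subgroup G) ⊓ cen x) := by
  classical
  by_contra hbig
  obtain ⟨sp⟩ := exists_split H hqm hg.nc hg.isQ
  have hT := hg.split_T H hqm sp
  set L := Subgroup.normalizer (sp.T : Set G) ⊓ Subgroup.normalizer (sp.K : Set G) with hL
  have hSL : (S : Subgroup G) ≤ L := fun u hu => ⟨mem_normalizer_of_forall fun t ht =>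
      sp.memT _ (hg.conj_mem hu (sp.T_le ht)) ((isQ_of_mem sp.hT ht).conj u),
    mem_normalizer_of_forall fun k hk => sp.memK _ (hg.conj_mem hu (sp.K_le hk)) (by
      rw [CfsgLib.Transfer.orderOf_conj]
      exact Transfer.coprime_orderOf_of_mem sp.K_cop hk)⟩
  have hKL : sp.K ≤ L := fun k hk => ⟨mem_normalizer_of_forall fun t ht => by
      rw [← (sp.comm t ht k hk).eq, mul_inv_cancel_right]; exact ht,
    Subgroup.le_normalizer hk⟩
  set D0 := sp.T ⊔ Subgroup.center G with hD0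
  set D := D0.subgroupOf L with hD
  have hD0mem : ∀ y ∈ D0, ∃ t ∈ sp.T, ∃ z ∈ Subgroup.center G, y = t * z := by
    intro y hy
    obtain ⟨t, ht, z, hz, rfl⟩ := Subgroup.mem_sup_of_normal_right.mp hy
    exact ⟨t, ht, z, hz, rfl⟩
  haveI hDn : D.Normal := ⟨fun d hd l => by
    rw [hD, Subgroup.mem_subgroupOf] at hd ⊢
    obtain ⟨t, ht, z, hz, h⟩ := hD0mem _ hd
    have h1 : (l : G) * t * (l : G)⁻¹ ∈ sp.T := (Subgroup.mem_normalizer_iff.mp l.2.1 t).mp ht
    have e : ((l * d * l⁻¹ : L) : G) = ((l : G) * t * (l : G)⁻¹) * z := by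
      simp only [Subgroup.coe_mul, InvMemClass.coe_inv, h]
      rw [mul_assoc (l : G) (t * z), mul_assoc t z, ← Subgroup.mem_center_iff.mp hz (l : G)⁻¹]
      simp [mul_assoc]
    rw [e]
    exact Subgroup.mul_mem_sup h1 hz⟩
  have hDS : ∀ y ∈ D0, y ∈ (S : Subgroup G) → y ∈ (S : Subgroup G) ⊓ cen x := by
    intro y hy hyS
    obtain ⟨t, ht, z, hz, rfl⟩ := hD0mem y hy
    exact ⟨hyS, mul_mem (sp.T_le ht) (center_le_cen x hz)⟩
  have hDK : ∀ y ∈ D0, (orderOf y).Coprime q → y ∈ Subgroup.center G := by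
    intro y hy hyc
    obtain ⟨t, ht, z, hz, rfl⟩ := hD0mem y hy
    obtain ⟨j, hj⟩ := isQ_iff.mp (isQ_of_mem sp.hT ht)
    have h1 : (t * z) ^ q ^ j = z ^ q ^ j := by
      rw [Commute.mul_pow (Subgroup.mem_center_iff.mp hz t), hj, one_mul]
    obtain ⟨i, hi⟩ := exists_pow_eq_self_of_coprime (x := t * z) (n := q ^ j)
      (hyc.pow_right j).symm
    rw [← hi, h1]
    exact pow_mem (pow_mem hz _) _
  set π := QuotientGroup.mk' D with hπ
  set A := ((S : Subgroup G).subgroupOf L).map π with hA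
  set V := (sp.K.subgroupOf L).map π with hV
  have hcomm : ∀ u v : L, (u : G) ∈ (S : Subgroup G) → (v : G) ∈ (S : Subgroup G) →
      π u * π v = π v * π u := by
    intro u v hu hv
    rw [← map_mul, ← map_mul, hπ, QuotientGroup.mk'_apply, QuotientGroup.mk'_apply,
      QuotientGroup.eq]
    rw [hD, Subgroup.mem_subgroupOf]
    obtain ⟨c, hc, h1⟩ := hg.tw u hu
    obtain ⟨d, hd, h2⟩ := hg.tw v hv
    refine Subgroup.mem_sup_left ?_
    rw [hT]
    simp only [Subgroup.coe_mul, InvMemClass.coe_inv]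
    refine Subgroup.mem_inf.mpr ⟨mul_mem (inv_mem (mul_mem hu hv)) (mul_mem hv hu), mem_cen.mpr ?_⟩
    have e1 : (u : G) * v * x * ((u : G) * v)⁻¹ = d * c * x := by
      calc (u : G) * v * x * ((u : G) * v)⁻¹ = u * (v * x * (v : G)⁻¹) * (u : G)⁻¹ := by group
        _ = d * (u * x * (u : G)⁻¹) := by
          rw [h2, ← mul_assoc (u : G), Subgroup.mem_center_iff.mp hd (u : G)]; group
        _ = d * c * x := by rw [h1, mul_assoc]
    have e2 : (v : G) * u * x * ((v : G) * u)⁻¹ = d * c * x := by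
      calc (v : G) * u * x * ((v : G) * u)⁻¹ = v * (u * x * (u : G)⁻¹) * (v : G)⁻¹ := by group
        _ = c * (v * x * (v : G)⁻¹) := by
          rw [h1, ← mul_assoc (v : G), Subgroup.mem_center_iff.mp hc (v : G)]; group
        _ = d * c * x := by rw [h2, ← mul_assoc, Subgroup.mem_center_iff.mp hd c]
    calc ((u : G) * v)⁻¹ * (v * u) * x
          = ((u : G) * v)⁻¹ * ((v : G) * u * x * ((v : G) * u)⁻¹) * (v * u) := by group
      _ = ((u : G) * v)⁻¹ * ((u : G) * v * x * ((u : G) * v)⁻¹) * (v * u) := by rw [e2, e1]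
      _ = x * (((u : G) * v)⁻¹ * (v * u)) := by group
  haveI : IsMulCommutative A := ⟨⟨by
    rintro ⟨_, u, hu, rfl⟩ ⟨_, v, hv, rfl⟩
    exact Subtype.ext (hcomm u v hu hv)⟩⟩
  have hexp : ∀ a ∈ A, a ^ q = 1 := by
    rintro _ ⟨u, hu, rfl⟩
    rw [← map_pow, hπ, QuotientGroup.mk'_apply, QuotientGroup.eq_one_iff, hD,
      Subgroup.mem_subgroupOf]
    refine Subgroup.mem_sup_left ?_
    rw [hT, SubmonoidClass.coe_pow]
    obtain ⟨c, hc, h1⟩ := hg.tw u hu
    exact ⟨pow_mem hu _, pow_mem_cen_of_central_mod hc h1 hg.pow⟩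
  have hncyc : ¬ IsCyclic A := by
    intro hcyc
    obtain ⟨⟨_, g, hgS, rfl⟩, hgen⟩ := hcyc.exists_zpow_surjective
    have key : ∀ u : (S : Subgroup G), ∃ i : Fin q,
        (u : G) * ((g : G) ^ (i : ℕ))⁻¹ ∈ (S : Subgroup G) ⊓ cen x := by
      intro u
      obtain ⟨j, hj⟩ := hgen ⟨π ⟨u, hSL u.2⟩, _, u.2, rfl⟩
      have hj' : (π g) ^ j = π ⟨u, hSL u.2⟩ := congrArg Subtype.val hj
      have hq0 : (q : ℤ) ≠ 0 := by exact_mod_cast hqF.out.ne_zero
      have hlt : (j % (q : ℤ)).toNat < q := by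
        have := Int.emod_lt_of_pos j (by exact_mod_cast hqF.out.pos : (0 : ℤ) < q)
        have := Int.emod_nonneg j hq0
        omega
      refine ⟨⟨(j % (q : ℤ)).toNat, hlt⟩, ?_⟩
      have hpow : (π g) ^ (j % (q : ℤ)).toNat = π ⟨u, hSL u.2⟩ := by
        have hgq : (π g) ^ q = 1 := hexp _ ⟨g, hgS, rfl⟩
        rw [← hj', ← zpow_natCast, Int.toNat_of_nonneg (Int.emod_nonneg j hq0)]
        conv_rhs => rw [← Int.emod_add_mul_ediv j (q : ℤ), zpow_add, zpow_mul, zpow_natCast, hgq,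
          one_zpow, mul_one]
      rw [← map_pow, hπ, QuotientGroup.mk'_apply, QuotientGroup.mk'_apply, QuotientGroup.eq,
        hD, Subgroup.mem_subgroupOf] at hpow
      simp only [Subgroup.coe_mul, InvMemClass.coe_inv, SubmonoidClass.coe_pow] at hpow
      have h3 := hDS _ hpow (mul_mem (inv_mem (pow_mem hgS _)) u.2)
      have h4 : (g : G) ^ (j % (q : ℤ)).toNat ∈ (S : Subgroup G) := pow_mem hgS _
      refine Subgroup.mem_inf.mpr ⟨mul_mem u.2 (inv_mem h4), ?_⟩
      have h5 := hg.conj_mem h4 h3.2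
      simpa [mul_assoc] using h5
    choose f hf using key
    have hinj : Function.Injective fun u : (S : Subgroup G) =>
        ((⟨_, hf u⟩ : ↥((S : Subgroup G) ⊓ cen x)), f u) := by
      intro u v huv
      simp only [Prod.mk.injEq, Subtype.mk.injEq] at huv
      obtain ⟨h1, h2⟩ := huv
      rw [h2] at h1
      exact Subtype.ext (mul_right_cancel h1)
    have := Nat.card_le_card_of_injective _ hinj
    rw [Nat.card_prod, Nat.card_eq_fintype_card (α := Fin q), Fintype.card_fin] at this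
    exact hbig (by rw [mul_comm]; exact this)
  have hAV : A ≤ Subgroup.normalizer (V : Set (L ⧸ D)) := by
    rintro _ ⟨u, -, rfl⟩
    refine mem_normalizer_of_forall ?_
    rintro _ ⟨k, hk, rfl⟩
    refine ⟨u * k * u⁻¹, ?_, by simp⟩
    show ((u * k * u⁻¹ : L) : G) ∈ sp.K
    simpa using (Subgroup.mem_normalizer_iff.mp u.2.2 _).mp hk
  have hcop : (Nat.card A).Coprime (Nat.card V) := by
    have hAp : IsPGroup q A := fun a => ⟨1, Subtype.ext (by simpa using hexp a a.2)⟩
    obtain ⟨i, hi⟩ := IsPGroup.iff_card.mp hAp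
    rw [hi]
    refine Nat.Coprime.pow_left i (Nat.Coprime.symm ?_)
    refine sp.K_cop.coprime_dvd_left ?_
    rw [← Nat.card_congr (Subgroup.subgroupOfEquivOfLe hKL).toEquiv]
    exact Subgroup.card_map_dvd _ _
  have hVbot : V ≤ ⊥ := by
    refine Coprime.le_of_centralizer_le hncyc hAV hcop ?_
    rintro _ ⟨u, hu, rfl⟩ hu1 _ ⟨⟨k, hk, rfl⟩, hc⟩
    rw [Subgroup.mem_bot, hπ, QuotientGroup.mk'_apply, QuotientGroup.eq_one_iff, hD,
      Subgroup.mem_subgroupOf]
    refine Subgroup.mem_sup_right ?_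
    by_contra hknc
    have h1 : π (u * k * u⁻¹ * k⁻¹) = 1 := by
      have hc' : π k * π u = π u * π k := mem_cen.mp hc
      rw [map_mul, map_mul, map_mul, map_inv, map_inv, ← hc', mul_inv_cancel_right, mul_inv_cancel]
    rw [hπ, QuotientGroup.mk'_apply, QuotientGroup.eq_one_iff, hD, Subgroup.mem_subgroupOf] at h1
    simp only [Subgroup.coe_mul, InvMemClass.coe_inv] at h1
    have h2 : (u : G) * k * (u : G)⁻¹ * (k : G)⁻¹ ∈ sp.K :=
      mul_mem ((Subgroup.mem_normalizer_iff.mp u.2.2 _).mp hk) (inv_mem hk)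
    have h3 : (u : G) * k * (u : G)⁻¹ * (k : G)⁻¹ ∈ Subgroup.center G :=
      hDK _ h1 (Transfer.coprime_orderOf_of_mem sp.K_cop h2)
    set c := (u : G) * k * (u : G)⁻¹ * (k : G)⁻¹ with hcdef
    have hku : Commute (u : G) k := by
      refine commute_of_twist (c := c) ?_ (Subgroup.mem_center_iff.mp h3 _) ?_
      · rw [Subgroup.mem_center_iff.mp h3 (k : G), hcdef]; group
      · exact (isQ_of_mem S.2 hu).coprime (hqF.out.coprime_iff_not_dvd.mp
          (Transfer.coprime_orderOf_of_mem sp.K_cop h2).symm)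
    have hux := hg.mem_of_commute H hqm hu (sp.K_le hk)
      (Transfer.coprime_orderOf_of_mem sp.K_cop hk) hknc hku
    apply hu1
    rw [hπ, QuotientGroup.mk'_apply, QuotientGroup.eq_one_iff, hD, Subgroup.mem_subgroupOf]
    refine Subgroup.mem_sup_left ?_
    rw [hT]
    exact ⟨hu, hux⟩
  obtain ⟨k, hk, hk', hknc⟩ := hg.ext
  have hkK := sp.memK k hk hk'
  have h1 : π ⟨k, hKL hkK⟩ = 1 := (Subgroup.mem_bot).mp (hVbot ⟨_, hkK, rfl⟩)
  rw [hπ, QuotientGroup.mk'_apply, QuotientGroup.eq_one_iff, hD, Subgroup.mem_subgroupOf] at h1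
  exact hknc (hDK _ h1 hk')

end

end CfsgLib.ClassThree
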